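import Cfsg.Agent.Co2Type.TGroup

/-!
# Kernel-checked spans of images of masks (helper904)

`gen_of` : if the Boolean check succeeds then, for every mask `m` of `E` with `c m`, every set closed under exclusive
or that contains `m` and the images `Q m` for `Q ∈ Qs` contains the masks of the list `B`.
-/

set_option autoImplicit false

namespace Cfsg.Agent.Omega.CoTwoK.Span

open Cfsg Cfsg.Agent.SporadicA.GolayBase Cfsg.Agent.SporadicA.GolayPerm
open Cfsg.Agent.Co2Type.Mono Cfsg.Agent.Co2Type.TGroup Cfsg.Agent.Co2Type.TData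

/-- force the evaluation of a number -/
def frc {α : Sort*} (n : ℕ) (f : ℕ → α) : α := Nat.rec (f 0) (fun k _ => f (k + 1)) n

theorem frc_eq {α : Sort*} (n : ℕ) (f : ℕ → α) : frc n f = f n := by
  cases n <;> rfl

/-- a set of numbers closed under exclusive or -/
structure Cl (S : Set ℕ) : Prop where
  zero : 0 ∈ S
  xor : ∀ a b, a ∈ S → b ∈ S → a ^^^ b ∈ S

theorem Cl.iff {S : Set ℕ} (h : Cl S) {a b : ℕ} (hb : b ∈ S) : a ^^^ b ∈ S ↔ a ∈ S := by
  constructor
  · intro h1
    have h2 := h.xor _ _ h1 hb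
    rwa [Nat.xor_assoc, Nat.xor_self, Nat.xor_zero] at h2
  · exact fun h1 => h.xor _ _ h1 hb

/-- reduce `a` by the list -/
def redK : List ℕ → ℕ → (ℕ → Bool) → Bool
  | [], a, k => k a
  | b :: l, a, k => frc (Nat.xor a b) fun c => cond (Nat.blt c a) (redK l c k) (redK l a k)

theorem redK_spec {l : List ℕ} : ∀ {a : ℕ} {k : ℕ → Bool}, redK l a k = true →
    ∃ r, k r = true ∧ ∀ S : Set ℕ, Cl S → (∀ b ∈ l, b ∈ S) → (r ∈ S ↔ a ∈ S) := by
  induction l with
  | nil => intro a k h; exact ⟨a, h, fun _ _ _ => Iff.rfl⟩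
  | cons b l ih =>
    intro a k h
    rw [redK, frc_eq] at h
    cases h1 : Nat.blt (Nat.xor a b) a with
    | true =>
      rw [h1, cond_true] at h
      obtain ⟨r, h2, h3⟩ := ih h
      refine ⟨r, h2, fun S hS hl => (h3 S hS fun x hx => hl x (List.mem_cons_of_mem _ hx)).trans ?_⟩
      exact hS.iff (hl b List.mem_cons_self)
    | false =>
      rw [h1, cond_false] at h
      obtain ⟨r, h2, h3⟩ := ih h
      exact ⟨r, h2, fun S hS hl => h3 S hS fun x hx => hl x (List.mem_cons_of_mem _ hx)⟩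

/-- insert into a decreasing list -/
def insK : ℕ → List ℕ → (List ℕ → Bool) → Bool
  | r, [], k => k [r]
  | r, b :: l, k => cond (Nat.blt b r) (k (r :: b :: l)) (insK r l fun l' => k (b :: l'))

theorem insK_spec {r : ℕ} {l : List ℕ} : ∀ {k : List ℕ → Bool}, insK r l k = true →
    ∃ l', k l' = true ∧ ∀ x ∈ l', x = r ∨ x ∈ l := by
  induction l with
  | nil => intro k h; exact ⟨[r], h, fun x hx => Or.inl (List.mem_singleton.1 hx)⟩
  | cons b l ih =>
    intro k h
    rw [insK] at h
    cases h1 : Nat.blt b r with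
    | true =>
      rw [h1, cond_true] at h
      exact ⟨_, h, fun x hx => by rcases List.mem_cons.1 hx with h2 | h2; exacts [Or.inl h2, Or.inr h2]⟩
    | false =>
      rw [h1, cond_false] at h
      obtain ⟨l', h2, h3⟩ := ih h
      refine ⟨b :: l', h2, fun x hx => ?_⟩
      rcases List.mem_cons.1 hx with rfl | h4
      · exact Or.inr List.mem_cons_self
      · rcases h3 x h4 with h5 | h5
        · exact Or.inl h5
        · exact Or.inr (List.mem_cons_of_mem _ h5)

/-- echelon basis of the span of a list -/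
def runK : List ℕ → List ℕ → (List ℕ → Bool) → Bool
  | [], l, k => k l
  | a :: as, l, k => redK l a fun r => cond (Nat.beq r 0) (runK as l k) (insK r l fun l' => runK as l' k)

theorem runK_spec {as : List ℕ} : ∀ {l : List ℕ} {k : List ℕ → Bool}, runK as l k = true →
    ∃ l', k l' = true ∧ ∀ S : Set ℕ, Cl S → (∀ b ∈ l, b ∈ S) → (∀ b ∈ as, b ∈ S) → ∀ x ∈ l', x ∈ S := by
  induction as with
  | nil => intro l k h; exact ⟨l, h, fun _ _ h1 _ => h1⟩
  | cons a as ih =>
    intro l k h
    rw [runK] at h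
    obtain ⟨r, h1, h2⟩ := redK_spec h
    cases h3 : Nat.beq r 0 with
    | true =>
      rw [h3, cond_true] at h1
      obtain ⟨l', h4, h5⟩ := ih h1
      exact ⟨l', h4, fun S hS hl ha => h5 S hS hl fun b hb => ha b (List.mem_cons_of_mem _ hb)⟩
    | false =>
      rw [h3, cond_false] at h1
      obtain ⟨l₁, h4, h5⟩ := insK_spec h1
      obtain ⟨l', h6, h7⟩ := ih h4
      refine ⟨l', h6, fun S hS hl ha => h7 S hS ?_ fun b hb => ha b (List.mem_cons_of_mem _ hb)⟩
      intro x hx
      rcases h5 x hx with rfl | h8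
      · exact (h2 S hS hl).2 (ha a List.mem_cons_self)
      · exact hl x h8

/-- the span of `as` contains the list `B` -/
def spanK (as B : List ℕ) : Bool := runK as [] fun l => B.all fun b => redK l b fun r => Nat.beq r 0

theorem spanK_spec {as B : List ℕ} (h : spanK as B = true) {S : Set ℕ} (hS : Cl S) (ha : ∀ a ∈ as, a ∈ S) :
    ∀ b ∈ B, b ∈ S := by
  obtain ⟨l, h1, h2⟩ := runK_spec h
  intro b hb
  have h3 := List.all_eq_true.1 h1 b hb
  obtain ⟨r, h4, h5⟩ := redK_spec h3
  have hl : ∀ x ∈ l, x ∈ S := h2 S hS (fun _ hx => absurd hx List.not_mem_nil) ha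
  refine (h5 S hS hl).1 ?_
  rw [Nat.eq_of_beq_eq_true h4]
  exact hS.zero

/-- exclusive or of two lists of the same length -/
def zipK : List ℕ → List ℕ → (List ℕ → Bool) → Bool
  | a :: as, b :: bs, k => frc (Nat.xor a b) fun c => zipK as bs fun l => k (c :: l)
  | _, _, k => k []

theorem zipK_map {α : Type} (g : α → ℕ → ℕ) (Qs : List α) (hg : ∀ Q ∈ Qs, ∀ a b, g Q (a ^^^ b) = g Q a ^^^ g Q b)
    (a b : ℕ) : ∀ k : List ℕ → Bool,
    zipK (Qs.map fun Q => g Q a) (Qs.map fun Q => g Q b) k = k (Qs.map fun Q => g Q (a ^^^ b)) := by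
  induction Qs with
  | nil => intro k; rfl
  | cons Q Qs ih =>
    intro k
    rw [List.map_cons, List.map_cons, zipK, frc_eq, ih fun Q hQ => hg Q (List.mem_cons_of_mem _ hQ), List.map_cons,
      hg Q List.mem_cons_self]
    rfl

/-- all elements of the span, with their images -/
def allV : List (List ℕ) → (List ℕ → Bool) → List ℕ → Bool
  | [], f, v => f v
  | b :: l, f, v => allV l f v && zipK v b fun v' => allV l f v'

theorem allV_spec {α : Type} {g : α → ℕ → ℕ} {Qs : List α} (hg : ∀ Q ∈ Qs, ∀ a b, g Q (a ^^^ b) = g Q a ^^^ g Q b)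
    {f : List ℕ → Bool} {l : List ℕ} : ∀ {a : ℕ}, allV (l.map fun b => Qs.map fun Q => g Q b) f (Qs.map fun Q => g Q a) = true →
    ∀ s, Sp l s → f (Qs.map fun Q => g Q (a ^^^ s)) = true := by
  induction l with
  | nil =>
    intro a h s hs
    have hs' : s = 0 := hs
    rw [hs', Nat.xor_zero]
    exact h
  | cons b l ih =>
    intro a h s hs
    rw [List.map_cons, allV, Bool.and_eq_true, zipK_map g Qs hg] at h
    rcases hs with hs | hs
    · exact ih h.1 s hs
    · have := ih h.2 _ hs
      have e : (a ^^^ b) ^^^ (s ^^^ b) = a ^^^ s := by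
        rw [Nat.xor_comm s b, Nat.xor_assoc, ← Nat.xor_assoc b b s, Nat.xor_self, Nat.zero_xor]
      rwa [e] at this

/-- the test at one element: the head is the mask itself -/
def tst (c : ℕ → Bool) (B : List ℕ) : List ℕ → Bool
  | [] => false
  | m :: v => cond (c m) (spanK (m :: v) B) true

/-- the function of an optional packed permutation -/
def gq : Option ℕ → ℕ → ℕ
  | none, m => m
  | some Q, m => pimg Q m

theorem gen_of {Qs B : List ℕ} {IL : List (List ℕ)} {v : List ℕ} {c : ℕ → Bool}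
    (hQ : (Qs.all isPerm) = true)
    (hI : IL = B10.map fun b => (none :: Qs.map some).map fun Q => gq Q b)
    (hv : v = (none :: Qs.map some).map fun Q => gq Q 0)
    (h : allV IL (tst c B) v = true) {m : ℕ} (hm : inE m = true) (hc : c m = true) {S : Set ℕ} (hS : Cl S)
    (h0 : m ∈ S) (h1 : ∀ Q ∈ Qs, pimg Q m ∈ S) : ∀ b ∈ B, b ∈ S := by
  subst hI hv
  have hg : ∀ Q ∈ (none :: Qs.map some : List (Option ℕ)), ∀ a b, gq Q (a ^^^ b) = gq Q a ^^^ gq Q b := by
    intro Q hQ' a b
    rcases List.mem_cons.1 hQ' with rfl | h2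
    · rfl
    · obtain ⟨Q, hQ2, rfl⟩ := List.mem_map.1 h2
      exact pimg_xor (List.all_eq_true.1 hQ Q hQ2) a b
  have h2 := allV_spec hg h m (sp_B10 hm)
  rw [Nat.zero_xor, List.map_cons] at h2
  change cond (c m) (spanK _ B) true = true at h2
  rw [hc, cond_true] at h2
  apply spanK_spec h2 hS
  intro a ha
  rcases List.mem_cons.1 ha with rfl | h3
  · exact h0
  · rw [List.map_map] at h3
    obtain ⟨Q, hQ2, rfl⟩ := List.mem_map.1 h3
    exact h1 Q hQ2

end Cfsg.Agent.Omega.CoTwoK.Span
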