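import Cfsg.Agent.Co2Type.Mono

/-!
# Packed permutations for the facts on `Spor.Co2` (helper904)

`repsN j` maps 4 to `j`; `reps4 j` fixes 4 and maps 1 to `j`.
-/

set_option autoImplicit false

namespace Cfsg.Agent.Omega.CoTwoK.PData

/-- permutations mapping 4 to the points 1, ..., 22 -/
def repsN : List ℕ := [0xb8dae5590b64285a89f149cc194c80,
  0xbb90d5060f2ae668c869b50e2a9180,
  0x26ab150908964e6aacc99903784f7,
  0x28e59c9b00d1eba89c662124b0e37,
  0x492454e2173e8d58cecac105158d7,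
  0xbca88b28353b9647cd906a4a610e20,
  0xbcd811da24a15b5809e65b90792920,
  0xbd88550a8e7d42b88cd069d8894d20,
  0xb88d4959a43c101628af8adc998ea0,
  0x14249d191abe4b38866b3a0a6a137,
  0xbc926b2881a391568e1129deb98980,
  0xb8d70549cf222b4289a689d2c9d820,
  0xbc8c714d348b2157d828215cd1a960,
  0xba9f1b08ab3912684d140d5ae90d80,
  0xb8d359c8ad710ec45a81844cf50960,
  0xb8aa8958ac0a687229ae5c5f098cc0,
  0xb98f46b0b52224e4cc2a78a11b2c60,
  0xb96ae151f10b14b34ec7192126a120,
  0x1d6c904af312c8a8c51535d34c297,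
  0xbcd671888c4392f2d9b08983454aa0,
  0xbd9a194cf42c16f20e2c32515509c0,
  0xbbd6c920873166188c555353675200]

/-- permutations fixing 4, mapping 1 to the points different from 0, 4, 23 -/
def reps4 : List ℕ := [0xbb142b4a892d4d36b86f3ad0484420,
  0xbd1ac7c2b1286487592a58cc499c40,
  0xb9cb17b02eab6d4849624cd0451860,
  0xb864250eafa30f65b6704c5c4320a0,
  0x582b1320ea44725250facda429cd7,
  0xbbe72129c5835168a46ba9984a04e0,
  0x1d529d92573022350715d5a483d17,
  0xb9672b2ab431e035b44c0a2247b920,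
  0x4e0b33e4d644e110dd4b55042a557,
  0xdd53c6d453429821e22c8c464d77,
  0xba9353c6741990e805f2289a45d980,
  0x220a9864b78a2c3d8b4a8cc44b9b7,
  0xbb6d310c2829a2a61e49a56047adc0,
  0x22029c6456a82970d75a58c461df7,
  0x2e216bd154a993b0e54299c411e17,
  0x28e59c9b00d1eba89c662124b0e37,
  0xbd56563cee325516da9340a0418640,
  0x52a8315eb4c46c859ca389a490677,
  0xbd66ab0e264adb24044e81ca463e80,
  0xb985250caf3a693722d0645640b6a0,
  0xbb22f4d4c88154e5cce268c24952c0]

/-- permutations (irreducibility) -/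
def QN : List ℕ := [0xbbca71264b690d6451931c6b0505c0,
  0xbd10d826b254ccc139e758e21216c0,
  0x320b799058d44e22823a4da991ed7,
  0xb928a998674d9ee64a3568961820a0,
  0x567692a87695638844f4192c71217,
  0xbc50a185847a6a6939b482cf3116c0,
  0x3a934d4814285231d8bb36057c477,
  0xbd04f2c1ab8a8d20baa365a68224e0,
  0xba8449526ea99312c0ef0a2c36ad80,
  0xb9a7125609628f673ca208e486d160,
  0xbca701d6c70a18d22dd44944a899e0,
  0xbbc9381947b32b21050da14715b920,
  0x4c293ac864e093a9af58cb425637,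
  0x124250c2b351b33becc2a6ae84517,
  0xbbd6d486cc40dd53d0a68464450a60,
  0x36029adc8292510b12aa3c75358f7]

/-- permutations fixing 4 -/
def Q4 : List ℕ := [0xba86e7d20db2cf26051529a2412660,
  0x520f704b21da269b5754292461c57,
  0xbd576821864b9e514473548e40d1a0,
  0x9ea736688506509acb3c584926b7,
  0xb99920ad3429da854053b0e2473ea0,
  0xbd8cb1d4e82b5529be29809c40b280,
  0xba8cd148b1aa1e90cdc765164b0e00,
  0x157353c500ca953d91160cc46b937,
  0xbd04f94228705954b4a61cce45aac0,
  0xb84b13c1ebb3a66125ac5550490e80,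
  0xb89061b6ac8466ab2c25a49243bdc0,
  0x452309cc5136b0a2a4f721845da77,
  0x42261ad54635323a2b3105e4b15d7,
  0xb8e960c9756450669cae7aa6482440,
  0xb95683244c759a783e81ac54498e40,
  0xb95c8a4a026d56f604679c524b1940,
  0x2df44aac7346a128c534364473217]

/-- permutations preserving {4, 10} -/
def QF : List ℕ := [0x36c90a0455d2538a9c7abe0430d97,
  0xba12c29e55735768105430e2a0be60,
  0x42513566d3b8436296f2d1044d837,
  0xb844e49a96414f2191b59c1ea64560,
  0xba2163bdd2a8d345926c6984a09620,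
  0xba44d7ae8861a27710738542ab48a0,
  0xbce8d8d9c192209110677accaa9580,
  0xbace58359644de672a22186a4a4920,
  0x1a459ba0f185abb28e24b1048d2b7,
  0xb998b921f11d9c269025aa4ea84e80,
  0xbd1b6a9ccb124288aa4c741e428e60,
  0x4d28ad2d99615a286e7a1843d857,
  0xbb9e19c596440f25a9b549444a1860]

end Cfsg.Agent.Omega.CoTwoK.PData
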