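import Cfsg.Agent.Omega.CoTwoK.Normal
import Cfsg.Agent.Omega.CoTwoK.PData

/-!
# Invariant subgroups of `E` in `Spor.Co2` (helper904)

`irr` : `E` is irreducible under `N`; `pi_min` : `Ξ` is in every non-trivial subgroup of `E` invariant under `N_Ξ`;
`f_max`, `f_uniq` : the same for `Ξ_f`.
-/

set_option autoImplicit false
set_option linter.dupNamespace false

namespace Cfsg.Agent.Omega.CoTwoK.Gen

open Cfsg Cfsg.Agent.SporadicA.GolayBase Cfsg.Agent.SporadicA.GolayPerm
open Cfsg.Agent.Co2Type.Mono Cfsg.Agent.Co2Type.TGroup Cfsg.Agent.Co2Type.TData Cfsg.Agent.Co2Type.FactsD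
open Cfsg.Agent.KFacts.Co2.Mono Cfsg.Agent.Omega.CoTwoK.Span Cfsg.Agent.Omega.CoTwoK.Normal
open Cfsg.Agent.Omega.CoTwoK.PData
open Subgroup

/-- the masks of a subgroup -/
def MS (Y : Subgroup Spor.Co2) : Set ℕ := {m | inE m = true ∧ ge m ∈ Y}

theorem cl_MS (Y : Subgroup Spor.Co2) : Cl (MS Y) where
  zero := ⟨inE_zero, by rw [ge_zero]; exact Y.one_mem⟩
  xor := by
    rintro a b ⟨ha, ha'⟩ ⟨hb, hb'⟩
    exact ⟨inE_xor ha hb, by rw [← ge_mul ha hb]; exact Y.mul_mem ha' hb'⟩

theorem mem_of_sp {Y : Subgroup Spor.Co2} : ∀ {l : List ℕ}, (∀ b ∈ l, b ∈ MS Y) → ∀ {m : ℕ}, Sp l m → ge m ∈ Y := by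
  intro l h m hm
  suffices h1 : m ∈ MS Y from h1.2
  induction l generalizing m with
  | nil =>
    have h' : m = 0 := hm
    rw [h']; exact (cl_MS Y).zero
  | cons b l ih =>
    have hb := h b List.mem_cons_self
    have hl : ∀ c ∈ l, c ∈ MS Y := fun c hc => h c (List.mem_cons_of_mem _ hc)
    rcases hm with hm | hm
    · exact ih hl hm
    · have h1 := (cl_MS Y).xor _ _ (ih hl hm) hb
      rwa [Nat.xor_assoc, Nat.xor_self, Nat.xor_zero] at h1

theorem conj_mem {Y : Subgroup Spor.Co2} {Q m : ℕ} (hQ : okP Q = true) (hlt : Q < 2 ^ 120)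
    (h : mo2 0 Q ∈ normalizer (Y : Set Spor.Co2)) (hm : m ∈ MS Y) : pimg Q m ∈ MS Y := by
  refine ⟨inE_pimg hQ hm.1, ?_⟩
  rw [← conj_mo2 inE_zero hQ hlt hm.1]
  exact (mem_normalizer_iff.1 h _).1 hm.2

/-- images of the basis -/
def IQN : List (List ℕ) := [[4202192, 5476616, 1103886, 1594898, 421910, 2232654, 1009728, 4485344, 7622914, 198058, 4243818, 290352, 1474854, 1060490, 4768432, 3375280, 3322370],
  [2101096, 3806496, 180636, 861210, 3610628, 705094, 1337732, 1161408, 6832158, 4301220, 843820, 1722420, 10558, 42232, 6656640, 1445088, 104010],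
  [1050548, 3739786, 190626, 1060490, 2501890, 4231958, 1664160, 4921504, 2675464, 4294810, 1474854, 1134148, 1728778, 3189796, 6475812, 1384564, 7345676],
  [525274, 742412, 4294810, 6062602, 2826278, 381252, 5842956, 4241960, 6295992, 307594, 10558, 1230376, 1256224, 1484824, 4282144, 722544, 3704512],
  [267634, 8077824, 4346506, 4744776, 2377830, 104010, 5785794, 2435240, 5063048, 5476616, 6588684, 3189796, 402026, 1230376, 2675464, 4063314, 2268296],
  [138790, 7622914, 6475812, 4220306, 416040, 1245726, 4485344, 463064, 2908802, 4921504, 5621792, 4253780, 280334, 6432416, 6979970, 8126628, 4346506],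
  [72588, 4726026, 301236, 1327290, 2322816, 180636, 1384564, 4626498, 2365978, 190626, 5268006, 1204944, 1337732, 2141072, 4921504, 2168036, 5375810],
  [36294, 1728778, 4213932, 5899416, 2372388, 237906, 5621792, 4336072, 4346506, 2201890, 1103886, 1084018, 5268006, 2268296, 168928, 1769924, 5280930],
  [21116, 6493202, 692282, 2908802, 4409606, 21116, 535268, 504864, 7079696, 4336072, 5514536, 157028, 416040, 3678776, 8077824, 2491452, 6455896],
  [10558, 2704706, 4325622, 4465308, 2201890, 252432, 8126628, 231532, 525274, 4241960, 1337732, 1217620, 2255372, 3375280, 2322816, 804052, 6554826]]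

theorem IQN_eq : IQN = B10.map fun b => (none :: QN.map some).map fun Q => gq Q b := by decide +kernel

/-- images of the basis -/
def IQ4 : List (List ℕ) := [[4202192, 267634, 1584464, 2491452, 4325622, 4261212, 5210132, 1594898, 6295992, 3678776, 2106966, 5508118, 1525008, 2425238, 42232, 3375280, 692282, 10558],
  [2101096, 2232654, 2702848, 919694, 4626498, 742412, 705094, 5785794, 4336072, 535268, 2372388, 4459426, 1351424, 6979970, 1664160, 1805314, 4346506, 843820],
  [1050548, 2245426, 2141072, 5899416, 4202192, 5210132, 252432, 555160, 4870480, 42232, 145176, 1084018, 4510744, 2654580, 4768432, 3179802, 525274, 1839388],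
  [525274, 2654580, 2120980, 861210, 6703248, 6832158, 1245726, 5329044, 145176, 4982904, 3421328, 1327290, 837906, 6832158, 115766, 4063314, 5899416, 615188],
  [267634, 4063314, 2106966, 926128, 2242672, 2820376, 3457556, 1903248, 6455896, 6889680, 3216208, 290352, 628112, 837906, 804052, 427666, 427666, 861210],
  [138790, 987906, 535268, 1192108, 6820450, 2328324, 2019456, 608810, 6308804, 6432416, 1090380, 6344194, 6100032, 2409888, 535268, 1410188, 104010, 4526126],
  [72588, 2372388, 2890176, 1573998, 4459426, 5817604, 987906, 4346506, 2322816, 2101096, 277580, 5280930, 5621792, 8126628, 2220640, 3739786, 4755660, 545190],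
  [36294, 6820450, 2631052, 1975812, 2296514, 6915112, 1675812, 3739786, 4346506, 4744776, 7345676, 5621792, 5817604, 545190, 63108, 2605066, 668866, 602472],
  [21116, 396116, 4202192, 1327290, 5640752, 180636, 421910, 5262104, 2384216, 2624690, 2384216, 427666, 4536592, 6594610, 722544, 5899416, 6455896, 421910],
  [10558, 2757268, 2757268, 1613974, 2365978, 2810896, 1594898, 4294810, 1204944, 4202192, 1839388, 4768432, 7903248, 4768432, 615188, 861210, 4202192, 2969648]]

theorem IQ4_eq : IQ4 = B10.map fun b => (none :: Q4.map some).map fun Q => gq Q b := by decide +kernel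

/-- images of the basis -/
def IQF : List (List ℕ) := [[4202192, 2810896, 4261212, 1121336, 861210, 1584464, 2180760, 560668, 150618, 4202192, 2106966, 1525008, 3179802, 290352],
  [2101096, 4441280, 1245726, 1351424, 2207772, 596054, 6832158, 3147996, 3294342, 4593028, 78514, 504864, 1070536, 3189796],
  [1050548, 2180760, 1217620, 4361520, 2810896, 4731956, 861210, 42232, 2491452, 1050548, 2624690, 4510744, 4510744, 2106966],
  [525274, 2150610, 1573998, 1084018, 2702848, 668866, 6915112, 2268296, 1245726, 2757268, 3474978, 2969648, 180636, 3678776],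
  [267634, 628112, 5899416, 3179802, 2460752, 1217620, 2624690, 4202192, 2106966, 2120980, 1050548, 628112, 2120980, 2491452],
  [138790, 742412, 5210132, 4726026, 1484824, 1722420, 1327290, 21116, 2512448, 7409024, 1613974, 951624, 7345676, 277580],
  [72588, 2769128, 7438406, 4241960, 7221256, 1849378, 5063048, 2130606, 5652556, 5409412, 2826278, 416040, 7397512, 7612992],
  [36294, 2268296, 1687640, 5280930, 2820376, 2242672, 2969648, 301236, 280334, 7345676, 3678776, 742412, 5817604, 2101096],
  [21116, 1687640, 4367374, 5262104, 504864, 1573998, 6554826, 2101096, 4063314, 1186194, 4785798, 361272, 6295992, 1384564],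
  [10558, 463064, 1805314, 4231958, 2268296, 138790, 5129250, 2168036, 3457556, 7479572, 1664160, 692282, 5329044, 3147996]]

theorem IQF_eq : IQF = B10.map fun b => (none :: QF.map some).map fun Q => gq Q b := by decide +kernel

theorem vQN_eq : List.replicate 17 0 = (none :: QN.map some).map fun Q => gq Q 0 := by decide +kernel

theorem vQ4_eq : List.replicate 18 0 = (none :: Q4.map some).map fun Q => gq Q 0 := by decide +kernel

theorem vQF_eq : List.replicate 14 0 = (none :: QF.map some).map fun Q => gq Q 0 := by decide +kernel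

theorem chkQN : QN.all (fun Q => okP Q && Nat.blt Q (2 ^ 120)) = true := by decide +kernel

theorem chkQ4 : Q4.all (fun Q => okP Q && Nat.blt Q (2 ^ 120) && Nat.beq (papp Q 4) 4) = true := by decide +kernel

theorem chkQF : QF.all (fun Q => okP Q && Nat.blt Q (2 ^ 120) && ((Nat.beq (papp Q 4) 4 && Nat.beq (papp Q 10) 10) ||
    (Nat.beq (papp Q 4) 10 && Nat.beq (papp Q 10) 4))) = true := by
  decide +kernel

theorem QN_mem {Q : ℕ} (h : Q ∈ QN) : okP Q = true ∧ Q < 2 ^ 120 := by
  have h1 := List.all_eq_true.1 chkQN Q h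
  rw [Bool.and_eq_true, Nat.blt_eq] at h1
  exact h1

theorem Q4_mem {Q : ℕ} (h : Q ∈ Q4) : okP Q = true ∧ Q < 2 ^ 120 ∧
    mo2 0 Q ∈ normalizer (E : Set Spor.Co2) ⊓ normalizer (Xi : Set Spor.Co2) := by
  have h1 := List.all_eq_true.1 chkQ4 Q h
  rw [Bool.and_eq_true, Bool.and_eq_true, Nat.blt_eq] at h1
  obtain ⟨⟨h1, h2⟩, h3⟩ := h1
  exact ⟨h1, h2, mo2_mem_N inE_zero h1 h2, (mo2_norm_Xi_iff inE_zero h1 h2).2 (Nat.eq_of_beq_eq_true h3)⟩

theorem QF_mem {Q : ℕ} (h : Q ∈ QF) : okP Q = true ∧ Q < 2 ^ 120 ∧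
    mo2 0 Q ∈ normalizer (E : Set Spor.Co2) ⊓ normalizer (Xf : Set Spor.Co2) := by
  have h1 := List.all_eq_true.1 chkQF Q h
  rw [Bool.and_eq_true, Bool.and_eq_true, Nat.blt_eq, Bool.or_eq_true, Bool.and_eq_true, Bool.and_eq_true] at h1
  obtain ⟨⟨h1, h2⟩, h3⟩ := h1
  refine ⟨h1, h2, mo2_mem_N inE_zero h1 h2, mo2_norm_Xf inE_zero h1 h2 ?_⟩
  rcases h3 with ⟨h3, h4⟩ | ⟨h3, h4⟩
  · exact Or.inl ⟨Nat.eq_of_beq_eq_true h3, Nat.eq_of_beq_eq_true h4⟩
  · exact Or.inr ⟨Nat.eq_of_beq_eq_true h3, Nat.eq_of_beq_eq_true h4⟩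

theorem isPerm_all {l : List ℕ} (h : ∀ Q ∈ l, okP Q = true) : (l.all isPerm) = true :=
  List.all_eq_true.2 fun Q hQ => (Cfsg.Agent.SporadicStructure.M24El.ok_iff.1 (ok_of_okP (h Q hQ))).1

/-! ### the certificates -/

theorem certN : allV IQN (tst (fun m => !(Nat.beq m 0)) B10) (List.replicate 17 0) = true := by decide +kernel

theorem cert4 : allV IQ4 (tst (fun m => !(Nat.beq m 0)) BXi) (List.replicate 18 0) = true := by decide +kernel

theorem certF : allV IQF (tst (fun m => Nat.testBit m 4 && Nat.testBit m 10) BXf) (List.replicate 14 0) = true := by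
  decide +kernel

theorem spXi : allSp B10 (fun m => Nat.testBit m 4 || spB BXi m) 0 = true := by decide +kernel

theorem spXf : allSp B10 (fun m => !(Nat.testBit m 4 == Nat.testBit m 10) || spB BXf m) 0 = true := by decide +kernel

theorem sp_Xi {m : ℕ} (hm : inE m = true) (h : m.testBit 4 = false) : Sp BXi m := by
  have h1 := allSp_zero spXi (sp_B10 hm)
  rcases (Bool.or_eq_true _ _).mp h1 with h1 | h1
  · rw [h] at h1; exact Bool.noConfusion h1
  · exact sp_of_spB h1

theorem sp_Xf {m : ℕ} (hm : inE m = true) (h : m.testBit 4 = m.testBit 10) : Sp BXf m := by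
  have h1 := allSp_zero spXf (sp_B10 hm)
  rcases (Bool.or_eq_true _ _).mp h1 with h1 | h1
  · rw [h] at h1; simp at h1
  · exact sp_of_spB h1

end Cfsg.Agent.Omega.CoTwoK.Gen
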