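import Cfsg.Agent.Omega.CoTwoK.Unique
import Cfsg.Agent.Co2Type.CardCo2

/-!
# `E` is unique up to conjugation (helper904)

`exists_conj` : an elementary abelian subgroup of order `2^10` of `Spor.Co2`, normal in a Sylow 2-subgroup, is conjugate to `E`.
-/

set_option autoImplicit false
set_option linter.dupNamespace false

namespace Cfsg.Agent.Omega.CoTwoK.Conj

open Cfsg Cfsg.Agent.Co2Type.TGroup Cfsg.Agent.Omega.CoTwoK.Normal
open Subgroup
open scoped Pointwise

/-- `T` is a Sylow 2-subgroup -/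
theorem exists_sylow : ∃ P : Sylow 2 Spor.Co2, (P : Subgroup Spor.Co2) = T := by
  have hfin : Finite Spor.Co2 := inferInstance
  have h2 : Fact (Nat.Prime 2) := ⟨Nat.prime_two⟩
  obtain ⟨P, hP⟩ := (IsPGroup.of_card Cfsg.Agent.Co2Type.TCard.card_T).exists_le_sylow
  refine ⟨P, (eq_of_le_of_card_ge hP ?_).symm⟩
  obtain ⟨k, hk⟩ := IsPGroup.iff_card.1 P.isPGroup'
  have hd : 2 ^ k ∣ 42305421312000 := by
    rw [← Cfsg.Agent.Co2Type.CardCo2.card_co2, ← hk]
    exact card_subgroup_dvd_card _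
  have hk18 : k ≤ 18 := by
    by_contra hc
    have h19 : 2 ^ 19 ∣ 42305421312000 := (pow_dvd_pow 2 (by omega)).trans hd
    norm_num at h19
  rw [hk, Cfsg.Agent.Co2Type.TCard.card_T]
  exact Nat.pow_le_pow_right (by norm_num) hk18

/-- **`E` is unique up to conjugation.** -/
theorem exists_conj (S : Sylow 2 Spor.Co2) {X : Subgroup Spor.Co2} (hX : X ≤ S)
    (hn : (S : Subgroup Spor.Co2) ≤ normalizer (X : Set Spor.Co2))
    (hsq : ∀ x ∈ X, x * x = 1) (hc : Nat.card X = 2 ^ 10) :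
    ∃ g : Spor.Co2, X.map (MulAut.conj g).toMonoidHom = E := by
  have hfin : Finite Spor.Co2 := inferInstance
  have h2 : Fact (Nat.Prime 2) := ⟨Nat.prime_two⟩
  obtain ⟨P, hP⟩ := exists_sylow
  obtain ⟨g, hg⟩ := MulAction.exists_smul_eq Spor.Co2 S P
  have hS : (S : Subgroup Spor.Co2).map (MulAut.conj g).toMonoidHom = T := by
    rw [← hP, ← hg]; rfl
  refine ⟨g, Unique.eq_E ?_ ?_ ?_ ?_⟩
  · rw [← hS]; exact map_mono hX
  · rw [← hS]
    rintro _ ⟨s, hs, rfl⟩
    apply mem_normalizer_fintype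
    rintro _ ⟨x, hx, rfl⟩
    refine ⟨s * x * s⁻¹, (mem_normalizer_iff.1 (hn hs) x).1 hx, ?_⟩
    rw [map_mul, map_mul, map_inv]
  · rintro _ ⟨x, hx, rfl⟩
    rw [← map_mul, hsq x hx, map_one]
  · rw [← hc]
    exact Nat.card_congr (equivMapOfInjective X _ (MulAut.conj g).injective).symm.toEquiv

end Cfsg.Agent.Omega.CoTwoK.Conj
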