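import Cfsg.Agent.Co2Type.TGroup

/-!
# Enumeration of the elementary abelian subgroups of a small group given by tables (helper902)

* `ker` : the kernel of a linear map over the field with two elements (elimination), `sp_ker`;
* `go` : enumeration of the closed subsets of the rows (involutions), with the space of common fixed vectors;
  `go_sound`.
-/

set_option autoImplicit false

namespace Cfsg.Agent.Omega.CoTwoK.ElAlg

open Cfsg.Agent.SporadicA.GolayPerm Cfsg.Agent.Co2Type.TGroup Cfsg.Agent.Co2Type.Mono

/-- bit `i` of `m` -/
def tb (m i : ℕ) : Bool := Nat.beq (Nat.land 1 (Nat.shiftRight m i)) 1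

theorem tb_eq (m i : ℕ) : tb m i = m.testBit i := by
  have h : Nat.land 1 (Nat.shiftRight m i) = 1 &&& (m >>> i) := rfl
  unfold tb Nat.testBit
  rw [h]
  have h2 : 1 &&& (m >>> i) = (m >>> i) % 2 := by rw [Nat.land_comm, Nat.and_one_is_mod]
  rw [h2]
  rcases Nat.mod_two_eq_zero_or_one (m >>> i) with h3 | h3 <;> rw [h3] <;> rfl

/-! ### elimination -/

/-- `(w, z)` is in the span of the pairs -/
def Sp2 : List (ℕ × ℕ) → ℕ → ℕ → Prop
  | [], w, z => w = 0 ∧ z = 0
  | (u, v) :: L, w, z => Sp2 L w z ∨ Sp2 L (w ^^^ u) (z ^^^ v)

/-- reduction of `q` by `(u, v)` at the bit `p` -/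
def red (p u v : ℕ) (q : ℕ × ℕ) : ℕ × ℕ := cond (tb q.2 p) (Nat.xor q.1 u, Nat.xor q.2 v) q

/-- the kernel of the map `u ↦ v` on the span -/
def ker : ℕ → List (ℕ × ℕ) → List ℕ
  | 0, L => L.map Prod.fst
  | _ + 1, [] => []
  | f + 1, (u, v) :: L =>
    cond (Nat.beq v 0) (u :: ker f L)
      (cond (tb v (Nat.log2 v)) (ker f (L.map (red (Nat.log2 v) u v))) (((u, v) :: L).map Prod.fst))

theorem sp_fst {L : List (ℕ × ℕ)} : ∀ {w z : ℕ}, Sp2 L w z → Sp (L.map Prod.fst) w := by
  induction L with
  | nil => intro w z h; exact h.1
  | cons a L ih =>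
    obtain ⟨u, v⟩ := a
    intro w z h
    rcases h with h | h
    · exact Or.inl (ih h)
    · exact Or.inr (ih h)

theorem xx (a b : ℕ) : (a ^^^ b) ^^^ b = a := by rw [Nat.xor_assoc, Nat.xor_self, Nat.xor_zero]

theorem sp2_red {p u v : ℕ} {L : List (ℕ × ℕ)} : ∀ {w z : ℕ}, Sp2 L w z →
    Sp2 (L.map (red p u v)) (red p u v (w, z)).1 (red p u v (w, z)).2 := by
  induction L with
  | nil =>
    rintro w z ⟨rfl, rfl⟩
    have : red p u v (0, 0) = (0, 0) := by
      unfold red
      have h : tb 0 p = false := by rw [tb_eq, Nat.zero_testBit]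
      simp only [h, cond_false]
    rw [this]
    exact ⟨rfl, rfl⟩
  | cons a L ih =>
    obtain ⟨x, y⟩ := a
    intro w z h
    have e : ∀ (c d : ℕ × ℕ), red p u v (c.1 ^^^ d.1, c.2 ^^^ d.2) =
        ((red p u v c).1 ^^^ (red p u v d).1, (red p u v c).2 ^^^ (red p u v d).2) := by
      rintro ⟨c1, c2⟩ ⟨d1, d2⟩
      unfold red
      simp only [tb_eq, Nat.testBit_xor]
      have k : ∀ s t r : ℕ, (s ^^^ t) ^^^ r = (s ^^^ r) ^^^ t := fun s t r => by
        rw [Nat.xor_assoc, Nat.xor_comm t r, ← Nat.xor_assoc]
      have k2 : ∀ s t r : ℕ, (s ^^^ r) ^^^ (t ^^^ r) = s ^^^ t := fun s t r => by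
        rw [Nat.xor_comm t r, ← Nat.xor_assoc, xx]
      cases h1 : c2.testBit p <;> cases h2 : d2.testBit p
      · rfl
      · simp only [Bool.false_xor, cond_true, cond_false]
        show (Nat.xor (c1 ^^^ d1) u, Nat.xor (c2 ^^^ d2) v) = (c1 ^^^ (d1 ^^^ u), c2 ^^^ (d2 ^^^ v))
        rw [← Nat.xor_assoc, ← Nat.xor_assoc]
        rfl
      · simp only [Bool.xor_false, cond_true, cond_false]
        show ((c1 ^^^ d1) ^^^ u, (c2 ^^^ d2) ^^^ v) = ((c1 ^^^ u) ^^^ d1, (c2 ^^^ v) ^^^ d2)
        rw [k c1 d1 u, k c2 d2 v]
      · simp only [Bool.xor_self, cond_true, cond_false]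
        show (c1 ^^^ d1, c2 ^^^ d2) = ((c1 ^^^ u) ^^^ (d1 ^^^ u), (c2 ^^^ v) ^^^ (d2 ^^^ v))
        rw [k2, k2]
    rcases h with h | h
    · exact Or.inl (ih h)
    · right
      have h3 := ih h
      rw [e (w, z) (x, y)] at h3
      exact h3

theorem sp_ker : ∀ (f : ℕ) {L : List (ℕ × ℕ)} {w : ℕ}, Sp2 L w 0 → Sp (ker f L) w := by
  intro f
  induction f with
  | zero => intro L w h; exact sp_fst h
  | succ f ih =>
    intro L w h
    cases L with
    | nil => exact h.1
    | cons a L =>
      obtain ⟨u, v⟩ := a
      rw [ker]
      cases h1 : Nat.beq v 0 with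
      | true =>
        have hv : v = 0 := Nat.eq_of_beq_eq_true h1
        subst hv
        rw [cond_true]
        rcases h with h | h
        · exact Or.inl (ih h)
        · rw [Nat.xor_zero] at h
          exact Or.inr (ih h)
      | false =>
        rw [cond_false]
        cases h2 : tb v (Nat.log2 v) with
        | false =>
          rw [cond_false]
          exact sp_fst h
        | true =>
          rw [cond_true]
          apply ih
          rcases h with h | h
          · have h3 := sp2_red (p := Nat.log2 v) (u := u) (v := v) h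
            have e : red (Nat.log2 v) u v (w, 0) = (w, 0) := by
              unfold red
              have h4 : tb 0 (Nat.log2 v) = false := by rw [tb_eq, Nat.zero_testBit]
              simp only [h4, cond_false]
            rw [e] at h3
            exact h3
          · rw [Nat.zero_xor] at h
            have h3 := sp2_red (p := Nat.log2 v) (u := u) (v := v) h
            have e : red (Nat.log2 v) u v (w ^^^ u, v) = (w, 0) := by
              unfold red
              simp only [h2, cond_true]
              show ((w ^^^ u) ^^^ u, v ^^^ v) = (w, 0)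
              rw [xx, Nat.xor_self]
            rw [e] at h3
            exact h3

/-- the fixed vectors of `P` in the span of `U` -/
def fixU (P : ℕ) (U : List ℕ) : List ℕ := ker 24 (U.map fun u => (u, Nat.xor (pimg P u) u))

theorem sp_fixU {P : ℕ} (hP : isPerm P = true) {U : List ℕ} {n : ℕ} (hn : Sp U n) (hf : pimg P n = n) :
    Sp (fixU P U) n := by
  apply sp_ker
  have key : ∀ (U : List ℕ) (n : ℕ), Sp U n → Sp2 (U.map fun u => (u, Nat.xor (pimg P u) u)) n (pimg P n ^^^ n) := by
    intro U
    induction U with
    | nil =>
      intro n h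
      have h' : n = 0 := h
      subst h'
      exact ⟨rfl, by rw [pimg_zero hP, Nat.xor_self]⟩
    | cons b U ih =>
      intro n h
      rcases h with h | h
      · exact Or.inl (ih n h)
      · right
        have h1 := ih _ h
        rw [pimg_xor hP] at h1
        have e : (pimg P n ^^^ pimg P b) ^^^ (n ^^^ b) = (pimg P n ^^^ n) ^^^ (Nat.xor (pimg P b) b) := by
          show (pimg P n ^^^ pimg P b) ^^^ (n ^^^ b) = (pimg P n ^^^ n) ^^^ (pimg P b ^^^ b)
          rw [Nat.xor_assoc, Nat.xor_assoc, ← Nat.xor_assoc (pimg P b) n b, Nat.xor_comm (pimg P b) n,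
            Nat.xor_assoc]
        rw [e] at h1
        exact h1
  have h := key U n hn
  rw [hf, Nat.xor_self] at h
  exact h

/-! ### enumeration -/

/-- a row: index, permutation, mask of the commuting rows, products (7 bits each) -/
structure R where
  i : ℕ
  P : ℕ
  cm : ℕ
  pr : ℕ

/-- index of the product with row `h` -/
def R.prod (r : R) (h : ℕ) : ℕ := Nat.mod (Nat.shiftRight r.pr (Nat.mul 7 h)) 128

/-- the index of `r` cannot be added to `H` -/
def bad (r : R) (inn : ℕ) (H : List ℕ) : Bool :=
  H.any fun h => !(tb r.cm h) || (Nat.blt (r.prod h) r.i && !(tb inn (r.prod h)))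

/-- bits -/
def addB (m : ℕ) : List ℕ → ℕ
  | [] => m
  | h :: H => Nat.lor (Nat.shiftLeft 1 h) (addB m H)

/-- enumeration -/
def go : List R → ℕ → List ℕ → List ℕ → Bool
  | [], _, H, U => H.isEmpty || Nat.ble (Nat.mul (Nat.succ H.length) (Nat.pow 2 U.length)) 512
  | r :: L, inn, H, U =>
    cond (tb inn r.i) (go L inn H U)
      (cond (go L inn H U)
        (cond (bad r inn H) true
          (go L (addB inn (r.i :: H.map r.prod)) (r.i :: (H ++ H.map r.prod)) (fixU r.P U))) false)

theorem testBit_addB {m : ℕ} {H : List ℕ} {j : ℕ} : (addB m H).testBit j = true ↔ m.testBit j = true ∨ j ∈ H := by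
  induction H with
  | nil => simp [addB]
  | cons h H ih =>
    have e : addB m (h :: H) = (1 <<< h) ||| addB m H := rfl
    rw [e, Nat.testBit_or, Bool.or_eq_true, ih, List.mem_cons, Nat.one_shiftLeft, Nat.testBit_two_pow]
    simp only [decide_eq_true_eq]
    constructor
    · rintro (h1 | h1 | h1)
      · exact Or.inr (Or.inl h1.symm)
      · exact Or.inl h1
      · exact Or.inr (Or.inr h1)
    · rintro (h1 | h1 | h1)
      · exact Or.inr (Or.inl h1)
      · exact Or.inl h1.symm
      · exact Or.inr (Or.inr h1)

/-- **Soundness.** `S` : the closed set of indices, `V` : vectors fixed by the rows of `S`. -/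
theorem go_sound {all : List R} {S V : ℕ → Prop}
    (hperm : ∀ r ∈ all, isPerm r.P = true)
    (hfix : ∀ r ∈ all, S r.i → ∀ n, V n → pimg r.P n = n)
    (hc : ∀ r ∈ all, S r.i → ∀ h, S h → r.cm.testBit h = true)
    (hp : ∀ r ∈ all, S r.i → ∀ h, S h → r.i ≠ h → S (r.prod h) ∧ r.prod h ≠ r.i) :
    ∀ (L : List R), (∀ r ∈ L, r ∈ all) → (L.map R.i).Pairwise (· < ·) →
    ∀ (inn : ℕ) (H U : List ℕ),
      (∀ j, inn.testBit j = true ↔ j ∈ H) → (∀ j ∈ H, S j) → (∀ j, S j → j ∈ H ∨ j ∈ L.map R.i) →
      (∀ n, V n → Sp U n) → go L inn H U = true →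
      ∃ H' U' : List ℕ, (∀ j, S j → j ∈ H') ∧ (∀ n, V n → Sp U' n) ∧
        (H' = [] ∨ (H'.length + 1) * 2 ^ U'.length ≤ 512) := by
  intro L
  induction L with
  | nil =>
    intro _ _ inn H U _ _ h3 h4 hgo
    refine ⟨H, U, fun j hj => ?_, h4, ?_⟩
    · rcases h3 j hj with h | h
      · exact h
      · exact absurd h (by simp)
    · rw [go, Bool.or_eq_true] at hgo
      rcases hgo with h | h
      · exact Or.inl (List.isEmpty_iff.1 h)
      · exact Or.inr (Nat.le_of_ble_eq_true h)
  | cons r L ih =>
    intro hall hpw inn H U h1 h2 h3 h4 hgo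
    have hr : r ∈ all := hall r List.mem_cons_self
    have hall' : ∀ s ∈ L, s ∈ all := fun s hs => hall s (List.mem_cons_of_mem _ hs)
    rw [List.map_cons, List.pairwise_cons] at hpw
    rw [go] at hgo
    cases hb : tb inn r.i with
    | true =>
      rw [hb, cond_true] at hgo
      refine ih hall' hpw.2 inn H U h1 h2 (fun j hj => ?_) h4 hgo
      rcases h3 j hj with h | h
      · exact Or.inl h
      · rw [List.map_cons, List.mem_cons] at h
        rcases h with h | h
        · left
          rw [h, ← h1, ← tb_eq]
          exact hb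
        · exact Or.inr h
    | false =>
      rw [hb, cond_false] at hgo
      cases hg1 : go L inn H U with
      | false => rw [hg1, cond_false] at hgo; exact absurd hgo (by simp)
      | true =>
        rw [hg1, cond_true] at hgo
        by_cases hS : S r.i
        · have hnot : r.i ∉ H := by
            intro h
            rw [← h1, ← tb_eq, hb] at h
            exact absurd h (by simp)
          cases hbad : bad r inn H with
          | true =>
            exfalso
            obtain ⟨h, hh, hx⟩ := List.any_eq_true.1 hbad
            have hne : r.i ≠ h := fun e => hnot (e ▸ hh)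
            rw [Bool.or_eq_true] at hx
            rcases hx with hx | hx
            · rw [tb_eq, hc r hr hS h (h2 h hh)] at hx
              exact absurd hx (by simp)
            · rw [Bool.and_eq_true] at hx
              obtain ⟨h5, h6⟩ := hp r hr hS h (h2 h hh) hne
              have h7 : r.prod h < r.i := Nat.blt_eq.mp hx.1
              rcases h3 _ h5 with h8 | h8
              · rw [← h1, ← tb_eq] at h8
                rw [h8] at hx
                exact absurd hx.2 (by simp)
              · rw [List.map_cons, List.mem_cons] at h8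
                rcases h8 with h8 | h8
                · exact h6 h8
                · exact absurd (hpw.1 _ h8) (by omega)
          | false =>
            rw [hbad, cond_false] at hgo
            refine ih hall' hpw.2 _ _ _ ?_ ?_ ?_ ?_ hgo
            · intro j
              rw [testBit_addB, h1]
              simp only [List.mem_cons, List.mem_append]
              tauto
            · intro j hj
              rw [List.mem_cons, List.mem_append] at hj
              rcases hj with h | h | h
              · rw [h]; exact hS
              · exact h2 j h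
              · obtain ⟨k, hk, rfl⟩ := List.mem_map.1 h
                exact (hp r hr hS k (h2 k hk) (fun e => hnot (e ▸ hk))).1
            · intro j hj
              rcases h3 j hj with h | h
              · left
                rw [List.mem_cons, List.mem_append]
                exact Or.inr (Or.inl h)
              · rw [List.map_cons, List.mem_cons] at h
                rcases h with h | h
                · left
                  rw [h]
                  exact List.mem_cons_self
                · exact Or.inr h
            · intro n hn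
              exact sp_fixU (hperm r hr) (h4 n hn) (hfix r hr hS n hn)
        · refine ih hall' hpw.2 inn H U h1 h2 (fun j hj => ?_) h4 hg1
          rcases h3 j hj with h | h
          · exact Or.inl h
          · rw [List.map_cons, List.mem_cons] at h
            rcases h with h | h
            · exact absurd (h ▸ hj) hS
            · exact Or.inr h

end Cfsg.Agent.Omega.CoTwoK.ElAlg
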