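import Cfsg.Agent.Omega.CoTwoK.ElData

/-!
# The table of the involutions of `T22` is correct; the enumeration (helper902)
-/

set_option autoImplicit false

namespace Cfsg.Agent.Omega.CoTwoK.ElChk

open Cfsg.Agent.SporadicA.GolayPerm Cfsg.Agent.Co2Type.TData Cfsg.Agent.Co2Type.TGroup Cfsg.Agent.Co2Type.Mono
open Cfsg.Agent.SporadicStructure.M24El
open Cfsg.Agent.Omega.CoTwoK.ElAlg Cfsg.Agent.Omega.CoTwoK.ElData

def pts : List ℕ := [1, 2, 3, 4, 5, 6, 7, 8, 9, 10, 11, 12, 13, 14, 15, 16, 17, 18, 19, 20, 21, 22]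

theorem pts_lt : ∀ p ∈ pts, p < 24 := by
  have h : (pts.all fun p => Nat.blt p 24) = true := by decide +kernel
  intro p hp
  exact Nat.blt_eq.mp (List.all_eq_true.1 h p hp)

/-- the permutation of row `j` -/
def code (j : ℕ) : ℕ := codes.getD j 0

def chkPair (r s : R) : Bool :=
  Nat.beq r.i s.i ||
    cond (tb r.cm s.i) (!(Nat.beq (r.prod s.i) r.i) && Nat.blt (r.prod s.i) 71 &&
        Nat.beq (code (r.prod s.i)) (pcomp r.P s.P))
      (pts.any fun p => !(Nat.beq (papp r.P (papp s.P p)) (papp s.P (papp r.P p))))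

theorem chkPairs : (invRows.all fun r => invRows.all fun s => chkPair r s) = true := by decide +kernel

theorem chkRow : (invRows.all fun r => memL r.P L22 && Nat.beq (code r.i) r.P && tb r.cm r.i) = true := by
  decide +kernel

theorem idx_eq : eqL (invRows.map R.i) (List.range 71) = true := by decide +kernel

theorem chkInv : (L22.all fun P => Nat.beq P idP || memL P codes ||
    (pts.any fun p => !(Nat.beq (papp P (papp P p)) p))) = true := by decide +kernel

theorem chkGo : go invRows 0 [] B10 = true := by decide +kernel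

theorem papp_idP' : (pts.all fun p => Nat.beq (papp idP p) p) = true := by decide +kernel

theorem code_row {r : R} (h : r ∈ invRows) : r.P ∈ L22 ∧ code r.i = r.P ∧ r.cm.testBit r.i = true := by
  have h1 := List.all_eq_true.1 chkRow r h
  rw [Bool.and_eq_true, Bool.and_eq_true] at h1
  exact ⟨memL_iff.1 h1.1.1, Nat.eq_of_beq_eq_true h1.1.2, by rw [← tb_eq]; exact h1.2⟩

theorem map_i : invRows.map R.i = List.range 71 := eq_of_eqL idx_eq

theorem exists_row {j : ℕ} (h : j < 71) : ∃ r ∈ invRows, r.i = j := by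
  have h1 : j ∈ invRows.map R.i := by rw [map_i]; exact List.mem_range.2 h
  obtain ⟨r, hr, h2⟩ := List.mem_map.1 h1
  exact ⟨r, hr, h2⟩

theorem row_lt {r : R} (h : r ∈ invRows) : r.i < 71 := by
  have h1 : r.i ∈ invRows.map R.i := List.mem_map_of_mem h
  rw [map_i] at h1
  exact List.mem_range.1 h1

theorem pairwise_i : (invRows.map R.i).Pairwise (· < ·) := by
  rw [map_i]
  exact List.pairwise_lt_range

/-- commuting invRows and their product -/
theorem pair_spec {r s : R} (hr : r ∈ invRows) (hs : s ∈ invRows) (hne : r.i ≠ s.i)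
    (hc : pcomp r.P s.P = pcomp s.P r.P) :
    r.cm.testBit s.i = true ∧ r.prod s.i ≠ r.i ∧ r.prod s.i < 71 ∧ code (r.prod s.i) = pcomp r.P s.P := by
  have h := List.all_eq_true.1 (List.all_eq_true.1 chkPairs r hr) s hs
  unfold chkPair at h
  rw [Bool.or_eq_true] at h
  rcases h with h | h
  · exact absurd (Nat.eq_of_beq_eq_true h) hne
  cases h1 : tb r.cm s.i with
  | true =>
    rw [h1, cond_true, Bool.and_eq_true, Bool.and_eq_true, Bool.not_eq_true'] at h
    refine ⟨by rw [← tb_eq]; exact h1, fun e => ?_, Nat.blt_eq.mp h.1.2, Nat.eq_of_beq_eq_true h.2⟩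
    rw [e, Nat.beq_refl] at h
    exact absurd h.1.1 (by simp)
  | false =>
    exfalso
    rw [h1, cond_false] at h
    obtain ⟨p, hp, h2⟩ := List.any_eq_true.1 h
    rw [Bool.not_eq_true'] at h2
    rw [← papp_pcomp _ _ (pts_lt p hp), ← papp_pcomp _ _ (pts_lt p hp), hc, Nat.beq_refl] at h2
    exact absurd h2 (by simp)

/-- the involutions of `T22` are the invRows -/
theorem mem_codes {P : ℕ} (hP : P ∈ L22) (hne : P ≠ idP) (h2 : pcomp P P = idP) : ∃ j < 71, code j = P := by
  have h := List.all_eq_true.1 chkInv P hP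
  rw [Bool.or_eq_true, Bool.or_eq_true] at h
  rcases h with (h | h) | h
  · exact absurd (Nat.eq_of_beq_eq_true h) hne
  · obtain ⟨r, hr, h3⟩ := List.mem_map.1 (memL_iff.1 h)
    exact ⟨r.i, row_lt hr, by rw [(code_row hr).2.1, h3]⟩
  · exfalso
    obtain ⟨p, hp, h3⟩ := List.any_eq_true.1 h
    rw [Bool.not_eq_true'] at h3
    have h4 := Nat.eq_of_beq_eq_true (List.all_eq_true.1 papp_idP' p hp)
    rw [← papp_pcomp _ _ (pts_lt p hp), h2, h4, Nat.beq_refl] at h3
    exact absurd h3 (by simp)

end Cfsg.Agent.Omega.CoTwoK.ElChk
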