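import Cfsg.Agent.Omega.CoTwoK.Cert

/-!
# Invariant subgroups of `E` in `Spor.Co2`: the theorems (helper904)
-/

set_option autoImplicit false
set_option linter.dupNamespace false

namespace Cfsg.Agent.Omega.CoTwoK.Gen

open Cfsg Cfsg.Agent.SporadicA.GolayBase Cfsg.Agent.SporadicA.GolayPerm
open Cfsg.Agent.Co2Type.Mono Cfsg.Agent.Co2Type.TGroup Cfsg.Agent.Co2Type.TData Cfsg.Agent.Co2Type.FactsD
open Cfsg.Agent.KFacts.Co2.Mono Cfsg.Agent.Omega.CoTwoK.Span Cfsg.Agent.Omega.CoTwoK.Normal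
open Cfsg.Agent.Omega.CoTwoK.PData
open Subgroup

theorem exists_ne {Y : Subgroup Spor.Co2} (hY : Y ≤ E) (h : Y ≠ ⊥) : ∃ m, m ≠ 0 ∧ m ∈ MS Y := by
  rcases Y.bot_or_exists_ne_one with h1 | ⟨g, hg, hg1⟩
  · exact absurd h1 h
  · obtain ⟨m, hm, rfl⟩ := hY hg
    refine ⟨m, ?_, hm, hg⟩
    rintro rfl
    exact hg1 mo2_one

theorem ne_test {m : ℕ} (h : m ≠ 0) : (!(Nat.beq m 0)) = true := by
  rw [Bool.not_eq_true']
  exact Bool.eq_false_iff.2 fun h1 => h (Nat.eq_of_beq_eq_true h1)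

/-- **`E` is irreducible.** -/
theorem irr {Y : Subgroup Spor.Co2} (hY : Y ≤ E) (h0 : Y ≠ ⊥)
    (hn : normalizer (E : Set Spor.Co2) ≤ normalizer (Y : Set Spor.Co2)) : Y = E := by
  obtain ⟨m, hm0, hm⟩ := exists_ne hY h0
  have h1 := gen_of (isPerm_all fun Q hQ => (QN_mem hQ).1) IQN_eq vQN_eq certN hm.1 (ne_test hm0) (cl_MS Y) hm
    fun Q hQ => conj_mem (QN_mem hQ).1 (QN_mem hQ).2
      (hn (mo2_mem_N inE_zero (QN_mem hQ).1 (QN_mem hQ).2)) hm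
  apply le_antisymm hY
  rintro _ ⟨n, hn', rfl⟩
  exact mem_of_sp h1 (sp_B10 hn')

/-- **`Ξ` is the unique minimal `N_Ξ`-invariant subgroup.** -/
theorem pi_min {Y : Subgroup Spor.Co2} (hY : Y ≤ E) (h0 : Y ≠ ⊥)
    (hn : normalizer (E : Set Spor.Co2) ⊓ normalizer (Xi : Set Spor.Co2) ≤ normalizer (Y : Set Spor.Co2)) :
    Xi ≤ Y := by
  obtain ⟨m, hm0, hm⟩ := exists_ne hY h0
  have h1 := gen_of (isPerm_all fun Q hQ => (Q4_mem hQ).1) IQ4_eq vQ4_eq cert4 hm.1 (ne_test hm0) (cl_MS Y) hm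
    fun Q hQ => conj_mem (Q4_mem hQ).1 (Q4_mem hQ).2.1 (hn (Q4_mem hQ).2.2) hm
  rintro _ ⟨n, hn', h4, rfl⟩
  exact mem_of_sp h1 (sp_Xi hn' h4)

/-- **Every proper `N_{Ξ_f}`-invariant subgroup of `Ξ_f` is in `Ξ`.** -/
theorem f_max {R : Subgroup Spor.Co2} (hR : R ≤ Xf) (hne : R ≠ Xf)
    (hn : normalizer (E : Set Spor.Co2) ⊓ normalizer (Xf : Set Spor.Co2) ≤ normalizer (R : Set Spor.Co2)) :
    R ≤ Xi := by
  by_contra hc
  obtain ⟨g, hg, hg'⟩ := SetLike.not_le_iff_exists.1 hc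
  obtain ⟨m, hm, h4, rfl⟩ := hR hg
  have hb : m.testBit 4 = true := by
    rw [← Bool.not_eq_false]
    exact fun h => hg' ((ge_mem_Xi hm).2 h)
  have h4' : m.testBit 4 = m.testBit 10 := h4
  have hmS : m ∈ MS R := ⟨hm, hg⟩
  have h1 := gen_of (c := fun m => Nat.testBit m 4 && Nat.testBit m 10)
    (isPerm_all fun Q hQ => (QF_mem hQ).1) IQF_eq vQF_eq certF hm
    (show (Nat.testBit m 4 && Nat.testBit m 10) = true by rw [← h4', hb]; rfl) (cl_MS R) hmS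
    fun Q hQ => conj_mem (QF_mem hQ).1 (QF_mem hQ).2.1 (hn (QF_mem hQ).2.2) hmS
  apply hne
  apply le_antisymm hR
  rintro _ ⟨n, hn', h4, rfl⟩
  exact mem_of_sp h1 (sp_Xf hn' h4)

/-- the products `b · b^Q` generate `Ξ_f` -/
theorem certU : spanK (B10.flatMap fun b => QF.map fun Q => Nat.xor b (pimg Q b)) BXf = true := by decide +kernel

/-- **`Ξ_f` is the unique `N_{Ξ_f}`-invariant hyperplane.** -/
theorem f_uniq {Y : Subgroup Spor.Co2} (hY : Y ≤ E) (hc : Nat.card Y = 2 ^ 9)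
    (hn : normalizer (E : Set Spor.Co2) ⊓ normalizer (Xf : Set Spor.Co2) ≤ normalizer (Y : Set Spor.Co2)) :
    Y = Xf := by
  have hi : Y.relIndex E = 2 := by
    have h2 := Subgroup.relIndex_mul_relIndex (⊥ : Subgroup Spor.Co2) Y E bot_le hY
    rw [Subgroup.relIndex_bot_left, Subgroup.relIndex_bot_left, hc, Cfsg.Agent.Co2Type.TCard.card_E] at h2
    omega
  have key : ∀ b ∈ B10, ∀ Q ∈ QF, b ^^^ pimg Q b ∈ MS Y := by
    intro b hb Q hQ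
    have hbE := chkB b hb
    have hQE := inE_pimg (QF_mem hQ).1 hbE
    refine ⟨inE_xor hbE hQE, ?_⟩
    rw [← ge_mul hbE hQE]
    have h1 : ge (pimg Q b) ∈ Y ↔ ge b ∈ Y := by
      rw [← conj_mo2 inE_zero (QF_mem hQ).1 (QF_mem hQ).2.1 hbE]
      exact (mem_normalizer_iff.1 (hn (QF_mem hQ).2.2) _).symm
    obtain ⟨a, ha, ha', h3⟩ := Subgroup.relIndex_eq_two_iff_exists_notMem_and.1 hi
    by_cases h2 : ge b ∈ Y
    · exact Y.mul_mem h2 (h1.2 h2)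
    · have h2' : ge (pimg Q b) ∉ Y := fun h => h2 (h1.1 h)
      have h4 := (h3 _ (ge_mem hbE)).resolve_right h2
      have h5 := (h3 _ (ge_mem hQE)).resolve_right h2'
      have h6 := Y.mul_mem h4 (Y.inv_mem h5)
      have h7 : ge b * a * (ge (pimg Q b) * a)⁻¹ = ge b * ge (pimg Q b) := by
        rw [mul_inv_rev, ge_inv hQE]; group
      rwa [h7] at h6
  have h1 : ∀ b ∈ BXf, b ∈ MS Y := by
    refine spanK_spec certU (cl_MS Y) ?_
    intro a ha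
    obtain ⟨b, hb, ha⟩ := List.mem_flatMap.1 ha
    obtain ⟨Q, hQ, rfl⟩ := List.mem_map.1 ha
    exact key b hb Q hQ
  have h2 : Xf ≤ Y := by
    rintro _ ⟨n, hn', h4, rfl⟩
    exact mem_of_sp h1 (sp_Xf hn' h4)
  exact (Subgroup.eq_of_le_of_card_ge h2 (by rw [hc, card_Xf])).symm

end Cfsg.Agent.Omega.CoTwoK.Gen
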