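import Cfsg.Agent.KFacts.Co2.Mono
import Cfsg.Agent.Omega.CoTwoK.Span

/-!
# The stabiliser `N` of `E` in `Spor.Co2`, and the hyperplanes `Ξ`, `Ξ_f` of `E` (helper904)

`N = N(E)` is the set of the elements `mo2 m Q` (`exN`, `mo2_mem_N`);
`Xi = {ge m | bit 4 of m is 0}`, `Xf = {ge m | bit 4 = bit 10}`.
-/

set_option autoImplicit false
set_option linter.dupNamespace false

namespace Cfsg.Agent.Omega.CoTwoK.Normal

open Cfsg Cfsg.Agent.SporadicA.GolayBase Cfsg.Agent.SporadicA.GolayPerm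
open Cfsg.Agent.SporadicStructure.M24El Cfsg.Agent.SporadicA.Co0Mono
open Cfsg.Agent.Co2Type.Mono Cfsg.Agent.Co2Type.TGroup Cfsg.Agent.Co2Type.TData Cfsg.Agent.Co2Type.FactsD
open Cfsg.Agent.SporadicStructure.Co0Base (e8 e8_coe)
open Cfsg.Agent.KFacts.CoTwo.Base Cfsg.Agent.KFacts.Co2.Mono Cfsg.Agent.Omega.CoTwoK.Span

/-- the stabiliser of `E` -/
abbrev N : Subgroup Spor.Co2 := Subgroup.normalizer (E : Set Spor.Co2)

theorem mem_E {g : Spor.Co2} : g ∈ E ↔ ∃ m, inE m = true ∧ g = ge m := Iff.rfl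

theorem ge_inj {m n : ℕ} (hm : inE m = true) (hn : inE n = true) (h : ge m = ge n) : m = n :=
  (mo2_inj hm hn okP_idP okP_idP Cfsg.Agent.Co2Type.TGroup.idP_lt Cfsg.Agent.Co2Type.TGroup.idP_lt h).1

theorem ge_inv {m : ℕ} (hm : inE m = true) : (ge m)⁻¹ = ge m := inv_eq_of_mul_eq_one_left (ge_sq hm)

theorem conj_mo2 {m n Q : ℕ} (hm : inE m = true) (hQ : okP Q = true) (hlt : Q < 2 ^ 120) (hn : inE n = true) :
    mo2 m Q * ge n * (mo2 m Q)⁻¹ = ge (pimg Q n) := by
  rw [ge_def, ge_def, mo2_conj_E hm hn hQ hlt, mul_inv_cancel_right]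

theorem mo2_mem_N {m Q : ℕ} (hm : inE m = true) (hQ : okP Q = true) (hlt : Q < 2 ^ 120) : mo2 m Q ∈ N := by
  apply Subgroup.mem_normalizer_fintype
  rintro x ⟨n, hn, rfl⟩
  exact ⟨pimg Q n, inE_pimg hQ hn, conj_mo2 hm hQ hlt hn⟩

theorem im_of_mem_N {g : Spor.Co2} (hg : g ∈ N) : im g = e8 none ∨ im g = e8 (some 0) := by
  apply im_cases'
  intro m hm
  obtain ⟨n, hn, h2⟩ := (Subgroup.mem_normalizer_iff''.1 hg (ge m)).1 (ge_mem hm)
  have h3 : ge m * g = g * ge n := by rw [ge_def n, ← h2]; group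
  rw [im_def, ← mul_smul, ← map_mul, h3, map_mul, mul_smul, ge_smul_none hn]

theorem exN {g : Spor.Co2} (hg : g ∈ N) :
    ∃ m Q, inE m = true ∧ okP Q = true ∧ Q < 2 ^ 120 ∧ g = mo2 m Q := exists_mo2_of_im (im_of_mem_N hg)

theorem mem_N_iff {g : Spor.Co2} : g ∈ N ↔ im g = e8 none ∨ im g = e8 (some 0) := by
  refine ⟨im_of_mem_N, fun h => ?_⟩
  obtain ⟨m, Q, hm, hQ, hlt, rfl⟩ := exists_mo2_of_im h
  exact mo2_mem_N hm hQ hlt

theorem E_le_N : E ≤ N := Subgroup.le_normalizer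

/-! ### the subgroup of `E` defined by a closed set of masks -/

/-- the subgroup of the `ge m`, `m ∈ S` -/
def Ms (S : Set ℕ) (hS : Cl S) : Subgroup Spor.Co2 where
  carrier := {g | ∃ m, inE m = true ∧ m ∈ S ∧ g = ge m}
  one_mem' := ⟨0, inE_zero, hS.zero, ge_zero.symm⟩
  mul_mem' := by
    rintro _ _ ⟨m, hm, h1, rfl⟩ ⟨n, hn, h2, rfl⟩
    exact ⟨m ^^^ n, inE_xor hm hn, hS.xor _ _ h1 h2, ge_mul hm hn⟩
  inv_mem' := by
    rintro _ ⟨m, hm, h1, rfl⟩
    exact ⟨m, hm, h1, ge_inv hm⟩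

variable {S : Set ℕ} {hS : Cl S}

theorem mem_Ms {g : Spor.Co2} : g ∈ Ms S hS ↔ ∃ m, inE m = true ∧ m ∈ S ∧ g = ge m := Iff.rfl

theorem ge_mem_Ms {m : ℕ} (hm : inE m = true) : ge m ∈ Ms S hS ↔ m ∈ S := by
  constructor
  · rintro ⟨n, hn, h1, h2⟩
    rw [ge_inj hm hn h2]; exact h1
  · exact fun h => ⟨m, hm, h, rfl⟩

theorem Ms_le : Ms S hS ≤ E := by
  rintro _ ⟨m, hm, -, rfl⟩
  exact ge_mem hm

theorem mo2_norm_Ms {m Q : ℕ} (hm : inE m = true) (hQ : okP Q = true) (hlt : Q < 2 ^ 120)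
    (h : ∀ n, inE n = true → n ∈ S → pimg Q n ∈ S) : mo2 m Q ∈ Subgroup.normalizer (Ms S hS : Set Spor.Co2) := by
  apply Subgroup.mem_normalizer_fintype
  rintro x ⟨n, hn, h1, rfl⟩
  exact ⟨pimg Q n, inE_pimg hQ hn, h n hn h1, conj_mo2 hm hQ hlt hn⟩

theorem pimg_mem {m n Q : ℕ} (hm : inE m = true) (hQ : okP Q = true) (hlt : Q < 2 ^ 120)
    (h : mo2 m Q ∈ Subgroup.normalizer (Ms S hS : Set Spor.Co2)) (hn : inE n = true) :
    pimg Q n ∈ S ↔ n ∈ S := by
  have h1 := Subgroup.mem_normalizer_iff.1 h (ge n)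
  rw [conj_mo2 hm hQ hlt hn, ge_mem_Ms hn, ge_mem_Ms (inE_pimg hQ hn)] at h1
  exact h1.symm

theorem card_Ms {a : ℕ} (ha : inE a = true) (ha' : a ∉ S)
    (h : ∀ n, inE n = true → n ∉ S → n ^^^ a ∈ S) : Nat.card (Ms S hS) = 2 ^ 9 := by
  have h1 : (Ms S hS).relIndex E = 2 := by
    rw [Subgroup.relIndex_eq_two_iff_exists_notMem_and]
    refine ⟨ge a, ge_mem ha, fun h2 => ha' ((ge_mem_Ms ha).1 h2), ?_⟩
    rintro _ ⟨n, hn, rfl⟩
    by_cases h3 : n ∈ S
    · exact Or.inr ((ge_mem_Ms hn).2 h3)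
    · left
      have h4 : mo2 n idP * ge a = ge (n ^^^ a) := ge_mul hn ha
      rw [h4]
      exact (ge_mem_Ms (inE_xor hn ha)).2 (h n hn h3)
  have h2 := Subgroup.relIndex_mul_relIndex (⊥ : Subgroup Spor.Co2) (Ms S hS) E bot_le Ms_le
  rw [Subgroup.relIndex_bot_left, Subgroup.relIndex_bot_left, h1, Cfsg.Agent.Co2Type.TCard.card_E] at h2
  omega

/-! ### the hyperplanes -/

/-- masks without the point 4 -/
def SXi : Set ℕ := {m | m.testBit 4 = false}

theorem cl_SXi : Cl SXi where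
  zero := by show (0 : ℕ).testBit 4 = false; decide
  xor a b ha hb := by
    have ha' : a.testBit 4 = false := ha
    have hb' : b.testBit 4 = false := hb
    show (a ^^^ b).testBit 4 = false
    rw [Nat.testBit_xor, ha', hb']; rfl

/-- masks with the same bits at 4 and 10 -/
def SXf : Set ℕ := {m | m.testBit 4 = m.testBit 10}

theorem cl_SXf : Cl SXf where
  zero := by show (0 : ℕ).testBit 4 = (0 : ℕ).testBit 10; decide
  xor a b ha hb := by
    have ha' : a.testBit 4 = a.testBit 10 := ha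
    have hb' : b.testBit 4 = b.testBit 10 := hb
    show (a ^^^ b).testBit 4 = (a ^^^ b).testBit 10
    rw [Nat.testBit_xor, Nat.testBit_xor, ha', hb']

/-- `Ξ` -/
def Xi : Subgroup Spor.Co2 := Ms SXi cl_SXi

/-- `Ξ_f` -/
def Xf : Subgroup Spor.Co2 := Ms SXf cl_SXf

theorem mem_Xi {g : Spor.Co2} : g ∈ Xi ↔ ∃ m, inE m = true ∧ m.testBit 4 = false ∧ g = ge m := Iff.rfl

theorem mem_Xf {g : Spor.Co2} : g ∈ Xf ↔ ∃ m, inE m = true ∧ m.testBit 4 = m.testBit 10 ∧ g = ge m := Iff.rfl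

theorem ge_mem_Xi {m : ℕ} (hm : inE m = true) : ge m ∈ Xi ↔ m.testBit 4 = false := ge_mem_Ms hm

theorem ge_mem_Xf {m : ℕ} (hm : inE m = true) : ge m ∈ Xf ↔ m.testBit 4 = m.testBit 10 := ge_mem_Ms hm

theorem Xi_le : Xi ≤ E := Ms_le

theorem Xf_le : Xf ≤ E := Ms_le

theorem chkA : (inE 1050548 && (1050548 : ℕ).testBit 4 && inE 2101096 && !((2101096 : ℕ).testBit 4) &&
    (2101096 : ℕ).testBit 10) = true := by
  decide +kernel

theorem card_Xi : Nat.card Xi = 2 ^ 9 := by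
  have h0 := chkA
  simp only [Bool.and_eq_true, Bool.not_eq_true'] at h0
  refine card_Ms (a := 1050548) h0.1.1.1.1 (fun h => ?_) fun n _ h => ?_
  · have h' : (1050548 : ℕ).testBit 4 = false := h
    rw [h0.1.1.1.2] at h'
    exact Bool.noConfusion h'
  · have h' : n.testBit 4 = true := by
      rw [← Bool.not_eq_false]; exact h
    show (n ^^^ 1050548).testBit 4 = false
    rw [Nat.testBit_xor, h', h0.1.1.1.2]; rfl

theorem card_Xf : Nat.card Xf = 2 ^ 9 := by
  have h0 := chkA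
  simp only [Bool.and_eq_true, Bool.not_eq_true'] at h0
  have e : (2101096 : ℕ).testBit 4 ≠ (2101096 : ℕ).testBit 10 := by rw [h0.1.2, h0.2]; decide
  refine card_Ms (a := 2101096) h0.1.1.2 e fun n _ h => ?_
  have h' : n.testBit 4 ≠ n.testBit 10 := h
  show (n ^^^ 2101096).testBit 4 = (n ^^^ 2101096).testBit 10
  rw [Nat.testBit_xor, Nat.testBit_xor]
  revert h' e
  cases n.testBit 4 <;> cases n.testBit 10 <;> cases (2101096 : ℕ).testBit 4 <;>
    cases (2101096 : ℕ).testBit 10 <;> decide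

theorem Xi_ne_Xf : Xi ≠ Xf := by
  intro h
  have h0 := chkA
  simp only [Bool.and_eq_true, Bool.not_eq_true'] at h0
  have h1 : (inE 2624690 && !((2624690 : ℕ).testBit 4 == false) &&
      ((2624690 : ℕ).testBit 4 == (2624690 : ℕ).testBit 10)) = true := by decide +kernel
  simp only [Bool.and_eq_true, Bool.not_eq_true', beq_iff_eq] at h1
  have h2 : ge 2624690 ∈ Xf := (ge_mem_Xf h1.1.1).2 h1.2
  rw [← h] at h2
  have h3 := (ge_mem_Xi h1.1.1).1 h2
  rw [h3] at h1
  simp at h1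

/-! ### the stabilisers of the hyperplanes -/

/-- a basis of the masks of `Ξ` -/
def BXi : List ℕ := [5249380, 2101096, 1573998, 792232, 280334, 138790, 72588, 36294, 31554]

/-- a basis of the masks of `Ξ_f` -/
def BXf : List ℕ := [4202192, 2624690, 1050548, 663036, 267634, 168928, 72588, 57274, 31554]

theorem chkBXi : BXi.all (fun m => inE m && !(Nat.testBit m 4)) = true := by decide +kernel

theorem chkBXi' : (List.range 24).all (fun i => Nat.beq i 0 || Nat.beq i 23 || Nat.beq i 4 ||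
    BXi.any fun m => Nat.testBit m i) = true := by decide +kernel

/-- the stabiliser of `Ξ` in `N` is the stabiliser of the point 4 -/
theorem mo2_norm_Xi_iff {m Q : ℕ} (hm : inE m = true) (hQ : okP Q = true) (hlt : Q < 2 ^ 120) :
    mo2 m Q ∈ Subgroup.normalizer (Xi : Set Spor.Co2) ↔ papp Q 4 = 4 := by
  have hp := (ok_iff.1 (ok_of_okP hQ)).1
  constructor
  · intro h
    by_contra hne
    have hj : papp Q 4 < 24 := papp_lt hp (by norm_num)
    obtain ⟨i, hi, hi4⟩ : ∃ i < 24, papp Q i = 4 := by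
      have hs : Function.Surjective fun i : Fin 24 => (⟨papp Q i, papp_lt hp i.2⟩ : Fin 24) := by
        apply Finite.surjective_of_injective
        intro i j hij
        have h1 : papp Q i = papp Q j := congrArg Fin.val hij
        have h2 : idx (permOf Q hp (pt i)) = idx (permOf Q hp (pt j)) := by
          rw [idx_permOf, idx_permOf, idx_pt i.2, idx_pt j.2, h1]
        have h3 := (permOf Q hp).injective (idx_injective h2)
        have h4 := congrArg idx h3
        rw [idx_pt i.2, idx_pt j.2] at h4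
        exact Fin.ext h4
      obtain ⟨i, hi⟩ := hs ⟨4, by norm_num⟩
      exact ⟨i, i.2, congrArg Fin.val hi⟩
    have hi0 : i ≠ 4 := by
      rintro rfl
      exact hne hi4
    have h1 := List.all_eq_true.1 chkBXi' i (List.mem_range.2 hi)
    have key : ∀ n, inE n = true → Nat.testBit n 4 = false → Nat.testBit n i = false := by
      intro n hn h4
      have h5 := (pimg_mem (S := SXi) (hS := cl_SXi) hm hQ hlt h hn).2 h4
      have h6 : (pimg Q n).testBit 4 = false := h5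
      rwa [← hi4, testBit_pimg_papp hp n hi] at h6
    rcases (Bool.or_eq_true _ _).mp h1 with h1 | h1
    · rcases (Bool.or_eq_true _ _).mp h1 with h1 | h1
      · have hP := okP_iff.1 hQ
        rcases (Bool.or_eq_true _ _).mp h1 with h1 | h1
        · have : i = 0 := Nat.eq_of_beq_eq_true h1
          subst this
          rcases hP.2 with ⟨a, b⟩ | ⟨a, b⟩ <;> omega
        · have : i = 23 := Nat.eq_of_beq_eq_true h1
          subst this
          rcases hP.2 with ⟨a, b⟩ | ⟨a, b⟩ <;> omega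
      · exact hi0 (Nat.eq_of_beq_eq_true h1)
    · obtain ⟨n, hn, h2⟩ := List.any_eq_true.1 h1
      have h3 := List.all_eq_true.1 chkBXi n hn
      simp only [Bool.and_eq_true, Bool.not_eq_true'] at h3
      rw [key n h3.1 h3.2] at h2
      exact Bool.noConfusion h2
  · intro h
    apply mo2_norm_Ms hm hQ hlt
    intro n _ hn
    have hn' : n.testBit 4 = false := hn
    show (pimg Q n).testBit 4 = false
    have := testBit_pimg_papp hp n (show 4 < 24 by norm_num)
    rw [h] at this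
    rw [this, hn']

theorem mo2_norm_Xf {m Q : ℕ} (hm : inE m = true) (hQ : okP Q = true) (hlt : Q < 2 ^ 120)
    (h : (papp Q 4 = 4 ∧ papp Q 10 = 10) ∨ (papp Q 4 = 10 ∧ papp Q 10 = 4)) :
    mo2 m Q ∈ Subgroup.normalizer (Xf : Set Spor.Co2) := by
  have hp := (ok_iff.1 (ok_of_okP hQ)).1
  apply mo2_norm_Ms hm hQ hlt
  intro n _ hn
  have hn' : n.testBit 4 = n.testBit 10 := hn
  show (pimg Q n).testBit 4 = (pimg Q n).testBit 10
  have e4 := testBit_pimg_papp hp n (show 4 < 24 by norm_num)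
  have e10 := testBit_pimg_papp hp n (show 10 < 24 by norm_num)
  rcases h with ⟨h1, h2⟩ | ⟨h1, h2⟩
  · rw [h1] at e4
    rw [h2] at e10
    rw [e4, e10, hn']
  · rw [h1] at e4
    rw [h2] at e10
    rw [e4, e10, hn']

end Cfsg.Agent.Omega.CoTwoK.Normal
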