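import Cfsg.Agent.Omega.CoTwoK.PointMain
import Cfsg.Agent.Omega.CoTwoK.Normal

/-!
# The fields `pi_ind`, `pi_two`, `pi_cen` of `CoFacts` (helper962)
-/

set_option autoImplicit false

namespace Cfsg.Agent.Omega.CoTwoK.Point

open Cfsg Cfsg.Agent.Co2Type.TGroup Cfsg.Agent.Omega.CoTwoK.Normal
open Subgroup

theorem Xi_eq : Xi = Xb 4 := by
  ext g
  exact Iff.rfl

theorem nn : NN (normalizer (E : Set Spor.Co2)) where
  ex _ hg := exN hg
  mem _ _ hm hQ hlt := mo2_mem_N hm hQ hlt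

theorem pi_ind : (normalizer (E : Set Spor.Co2) ⊓ normalizer (Xi : Set Spor.Co2)).relIndex
    (normalizer (E : Set Spor.Co2)) = 22 := by
  rw [Xi_eq]
  exact index22 nn

theorem pi_two (U : Subgroup Spor.Co2)
    (hU : U ≤ normalizer (E : Set Spor.Co2) ⊓ normalizer (Xi : Set Spor.Co2)) (h2 : IsPGroup 2 U)
    (hn : normalizer (E : Set Spor.Co2) ⊓ normalizer (Xi : Set Spor.Co2) ≤ normalizer (U : Set Spor.Co2)) :
    U ≤ E := by
  rw [Xi_eq] at hU hn
  exact two nn U hU h2 hn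

theorem pi_cen : normalizer (E : Set Spor.Co2) ⊓ centralizer (Xi : Set Spor.Co2) ≤ E := by
  rw [Xi_eq]
  exact cen nn

end Cfsg.Agent.Omega.CoTwoK.Point
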