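import Cfsg.Agent.Omega.CoTwoK.Normal
import Cfsg.Agent.KFacts.Co2.T1

/-!
# The third parabolic of `Spor.Co2` (helper904)

`PP` = the stabiliser of the cosets `N`, `g₀N`, `g₀⁻¹N` : `E ≤ PP`, `|PP : PP ∩ N| = 3`,
`Ξ_f = {x ∈ E | g x g⁻¹ ∈ N for all g ∈ PP}`.
-/

set_option autoImplicit false
set_option linter.dupNamespace false

namespace Cfsg.Agent.Omega.CoTwoK.Sextet

open Cfsg Cfsg.Agent.SporadicA.GolayBase Cfsg.Agent.SporadicA.GolayPerm
open Cfsg.Agent.SporadicStructure.M24El Cfsg.Agent.SporadicA.Co0Mono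
open Cfsg.Agent.Co2Type.Mono Cfsg.Agent.Co2Type.TGroup Cfsg.Agent.Co2Type.TData Cfsg.Agent.Co2Type.FactsD
open Cfsg.Agent.SporadicStructure.Co0Base (e8 e8_coe)
open Cfsg.Agent.KFacts.CoTwo.Base Cfsg.Agent.KFacts.Co2.Mono Cfsg.Agent.Omega.CoTwoK.Span
open Cfsg.Agent.Omega.CoTwoK.Normal
open Cfsg.Agent.Co2Type.Co2Rels (x toCo0_x pg xw xw_eq_one rep xw_rep)
open Cfsg.Agent.Co2Type.MatsData
open Cfsg.Agent.Co2Type.Co2El (good_el Ss_eq)
open Cfsg.Agent.LeechMat.Elements (sdig vec vec_apply)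
open Cfsg.Agent.LeechMat.Words (prodW c8 c8_lt vec_c8 sqNorm_e8 run_sound)
open Cfsg.Agent.LeechMat.Code (pos pos_lt)
open Cfsg.Agent.KFacts.Co2.T1 (pos_eq_idx)
open Subgroup

/-! ### vectors supported by the tetrad `{0, 4, 10, 23}` -/

/-- vector with coordinates at 0, 4, 10, 23 -/
def tet (a b c d : ℤ) (i : GolayPt) : ℤ :=
  if idx i = 0 then a else if idx i = 4 then b else if idx i = 10 then c else if idx i = 23 then d else 0

theorem coe_leechU : ((Spor.leechU : leechLattice) : GolayPt → ℤ) = tet 4 0 0 4 := by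
  funext i
  rw [leechU_apply]
  unfold tet
  by_cases h0 : idx i = 0
  · rw [if_pos (Or.inl h0), if_pos h0]
  · rw [if_neg h0]
    by_cases h4 : idx i = 4
    · rw [if_pos h4, if_neg (by omega)]
    · rw [if_neg h4]
      by_cases h10 : idx i = 10
      · rw [if_pos h10, if_neg (by omega)]
      · rw [if_neg h10]
        by_cases h23 : idx i = 23
        · rw [if_pos h23, if_pos (Or.inr h23)]
        · rw [if_neg h23, if_neg (by omega)]

theorem coe_e8 : ((e8 none : leechLattice) : GolayPt → ℤ) = tet 0 0 0 8 := by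
  rw [e8_coe]
  decide +kernel

theorem coe_e8' : ((e8 (some 0) : leechLattice) : GolayPt → ℤ) = tet 8 0 0 0 := by
  rw [e8_coe]
  decide +kernel

theorem tet_zero (a b c d : ℤ) : tet a b c d (pt 0) = a := by
  unfold tet; rw [idx_pt (by norm_num), if_pos rfl]

theorem tet_four (a b c d : ℤ) : tet a b c d (pt 4) = b := by
  unfold tet; rw [idx_pt (by norm_num), if_neg (by norm_num), if_pos rfl]

theorem ge_tet {m : ℕ} (hm : inE m = true) {v : leechLattice} {a b c d : ℤ}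
    (hv : (v : GolayPt → ℤ) = tet a b c d) : ((toCo0 (ge m) • v : leechLattice) : GolayPt → ℤ) =
      tet a (if m.testBit 4 then -b else b) (if m.testBit 10 then -c else c) d := by
  funext i
  rw [ge_smul hm, hv]
  have h := inE_iff.1 hm
  unfold tet sgm
  by_cases h0 : idx i = 0
  · rw [if_pos h0, if_pos h0, h0, h.2.1, if_neg (by decide), one_mul]
  · rw [if_neg h0, if_neg h0]
    by_cases h4 : idx i = 4
    · rw [if_pos h4, if_pos h4, h4]
      split_ifs <;> ring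
    · rw [if_neg h4, if_neg h4]
      by_cases h10 : idx i = 10
      · rw [if_pos h10, if_pos h10, h10]
        split_ifs <;> ring
      · rw [if_neg h10, if_neg h10]
        by_cases h23 : idx i = 23
        · simp only [if_pos h23]
          rw [h23, h.2.2, if_neg (by decide), one_mul]
        · simp only [if_neg h23]
          rw [mul_zero]

/-- reflection `v ↦ 2u - v` -/
noncomputable def op (v : leechLattice) : leechLattice := Spor.leechU + Spor.leechU - v

theorem op_smul (g : Spor.Co2) (v : leechLattice) : toCo0 g • op v = op (toCo0 g • v) := by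
  unfold op
  rw [smul_sub, smul_add, toCo0_smul_leechU]

theorem coe_op {v : leechLattice} {a b c d : ℤ} (hv : (v : GolayPt → ℤ) = tet a b c d) :
    ((op v : leechLattice) : GolayPt → ℤ) = tet (8 - a) (-b) (-c) (8 - d) := by
  funext i
  show ((Spor.leechU : leechLattice) : GolayPt → ℤ) i + ((Spor.leechU : leechLattice) : GolayPt → ℤ) i -
    (v : GolayPt → ℤ) i = _
  rw [hv, coe_leechU]
  unfold tet
  split_ifs <;> norm_num

/-- the two vectors of the frame -/
def Fr (v : leechLattice) : Prop := v = e8 none ∨ v = e8 (some 0)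

theorem op_e8 : op (e8 none) = e8 (some 0) := by
  apply Subtype.ext
  rw [coe_op coe_e8, coe_e8']
  norm_num

theorem fr_op : Fr (op (e8 none)) := Or.inr op_e8

theorem fr_e8 : Fr (e8 none) := Or.inl rfl

/-! ### the element `g₀` -/

/-- element of order three -/
noncomputable def g0 : Spor.Co2 := x 0 * x 1 * x 5 * x 7

theorem g0_inv : g0⁻¹ = x 7 * x 5 * x 1 * x 0 := by
  have hp := pg
  apply inv_eq_of_mul_eq_one_right
  unfold g0
  calc x 0 * x 1 * x 5 * x 7 * (x 7 * x 5 * x 1 * x 0)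
      = x 0 * x 1 * x 5 * (x 7 * x 7) * x 5 * x 1 * x 0 := by group
    _ = x 0 * x 1 * (x 5 * x 5) * x 1 * x 0 := by rw [hp.gg, mul_one]; group
    _ = x 0 * (x 1 * x 1) * x 0 := by rw [hp.ff, mul_one]; group
    _ = 1 := by rw [hp.cc, mul_one, hp.aa]

theorem g0_pow : g0 ^ 3 = 1 := by
  have h : g0 = xw [0, 1, 5, 7] := by
    unfold g0 xw
    simp only [List.map_cons, List.map_nil, List.prod_cons, List.prod_nil, mul_one, mul_assoc]
  rw [h, ← xw_rep]
  exact xw_eq_one (by decide +kernel)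

/-- code of `g₀ (8 e_∞)` -/
def c2 : ℕ := 0xa42108421084210832108420c84214

/-- code of `g₀⁻¹ (8 e_∞)` -/
def cu : ℕ := 0xa42108421084210832108421484214

theorem word_im {w : List ℕ} {c : ℕ} (hw : ∀ i ∈ w, i < 17)
    (h : Cfsg.Agent.LeechMat.Words.run Ms Ss w (c8 23) (fun d => Nat.beq d c) = true) :
    ((prodW Cfsg.Agent.Co2Type.Co2El.el w • e8 none : leechLattice) : GolayPt → ℤ) = vec c := by
  have h23 : pos (none : GolayPt) = 23 := by rw [pos_eq_idx]; rfl
  obtain ⟨m, -, hm, hx⟩ := run_sound (Ms := Ms) (Ss := Ss) (G := Cfsg.Agent.Co2Type.Co2El.el) w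
    (fun i hi => (good_el (hw i hi)).1) (fun i hi => Ss_eq i (hw i hi)) _
    (by have := c8_lt (none : GolayPt); rwa [h23] at this) _ h
  have h1 := hx (e8 none) (by rw [← vec_c8, h23]) (sqNorm_e8 _)
  rw [h1, Nat.eq_of_beq_eq_true hm]

theorem vec_tet {c : ℕ} {p q r s : ℤ} (h : ∀ k < 24, sdig c k =
    if k = 0 then p else if k = 4 then q else if k = 10 then r else if k = 23 then s else 0) :
    vec c = tet p q r s := by
  funext i
  rw [vec_apply, pos_eq_idx, h _ (idx_lt i)]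
  rfl

theorem im_g0 : ((im g0 : leechLattice) : GolayPt → ℤ) = tet 4 (-4) (-4) 4 := by
  have h : toCo0 g0 = prodW Cfsg.Agent.Co2Type.Co2El.el [0, 1, 4, 5] := by
    unfold g0
    simp only [map_mul, toCo0_x, mul_assoc]
    show Cfsg.Agent.Co2Type.Co2El.el 0 * 1 * (Cfsg.Agent.Co2Type.Co2El.el 1 * 1 *
      (Cfsg.Agent.Co2Type.Co2El.el 4 * 1 * (Cfsg.Agent.Co2Type.Co2El.el 5 * 1))) = _
    simp only [mul_one]
    show _ = Cfsg.Agent.Co2Type.Co2El.el 0 * (Cfsg.Agent.Co2Type.Co2El.el 1 *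
      (Cfsg.Agent.Co2Type.Co2El.el 4 * (Cfsg.Agent.Co2Type.Co2El.el 5 * 1)))
    rw [mul_one]
  rw [im_def, h, word_im (c := c2) (by decide) (by decide +kernel)]
  exact vec_tet (by decide +kernel)

theorem im_g0i : ((im g0⁻¹ : leechLattice) : GolayPt → ℤ) = tet 4 4 (-4) 4 := by
  have h : toCo0 g0⁻¹ = prodW Cfsg.Agent.Co2Type.Co2El.el [5, 4, 1, 0] := by
    rw [g0_inv]
    simp only [map_mul, toCo0_x, mul_assoc]
    show Cfsg.Agent.Co2Type.Co2El.el 5 * 1 * (Cfsg.Agent.Co2Type.Co2El.el 4 * 1 *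
      (Cfsg.Agent.Co2Type.Co2El.el 1 * 1 * (Cfsg.Agent.Co2Type.Co2El.el 0 * 1))) = _
    simp only [mul_one]
    show _ = Cfsg.Agent.Co2Type.Co2El.el 5 * (Cfsg.Agent.Co2Type.Co2El.el 4 *
      (Cfsg.Agent.Co2Type.Co2El.el 1 * (Cfsg.Agent.Co2Type.Co2El.el 0 * 1)))
    rw [mul_one]
  rw [im_def, h, word_im (c := cu) (by decide) (by decide +kernel)]
  exact vec_tet (by decide +kernel)

theorem g0_mul : g0 * g0 = g0⁻¹ := by
  rw [eq_inv_iff_mul_eq_one]
  have := g0_pow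
  rw [pow_succ, pow_two] at this
  exact this

theorem g0i_mul : g0⁻¹ * g0⁻¹ = g0 := by
  rw [← mul_inv_rev, g0_mul, inv_inv]

theorem smul_u2 : toCo0 g0 • im g0 = im g0⁻¹ := by
  rw [im_def, im_def, ← mul_smul, ← map_mul, g0_mul]

theorem smul_u : toCo0 g0 • im g0⁻¹ = e8 none := by
  rw [im_def, ← mul_smul, ← map_mul, mul_inv_cancel, map_one, one_smul]

theorem ismul_u2 : toCo0 g0⁻¹ • im g0 = e8 none := by
  rw [im_def, ← mul_smul, ← map_mul, inv_mul_cancel, map_one, one_smul]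

theorem ismul_u : toCo0 g0⁻¹ • im g0⁻¹ = im g0 := by
  rw [im_def, im_def, ← mul_smul, ← map_mul, g0i_mul]

/-- the image of `im g₀` under `ge m` -/
theorem ge_u2 {m : ℕ} (hm : inE m = true) : toCo0 (ge m) • im g0 =
    if m.testBit 4 then (if m.testBit 10 then op (im g0) else im g0⁻¹)
    else (if m.testBit 10 then op (im g0⁻¹) else im g0) := by
  apply Subtype.ext
  rw [ge_tet hm im_g0]
  cases m.testBit 4 <;> cases m.testBit 10
  · simp only [Bool.false_eq_true, if_false]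
    rw [im_g0]
  · simp only [Bool.false_eq_true, if_false, if_true]
    rw [coe_op im_g0i]; norm_num
  · simp only [Bool.false_eq_true, if_false, if_true]
    rw [im_g0i]; norm_num
  · simp only [if_true]
    rw [coe_op im_g0]; norm_num

/-- the image of `im g₀⁻¹` under `ge m` -/
theorem ge_u {m : ℕ} (hm : inE m = true) : toCo0 (ge m) • im g0⁻¹ =
    if m.testBit 4 then (if m.testBit 10 then op (im g0⁻¹) else im g0)
    else (if m.testBit 10 then op (im g0) else im g0⁻¹) := by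
  apply Subtype.ext
  rw [ge_tet hm im_g0i]
  cases m.testBit 4 <;> cases m.testBit 10
  · simp only [Bool.false_eq_true, if_false]
    rw [im_g0i]
  · simp only [Bool.false_eq_true, if_false, if_true]
    rw [coe_op im_g0]; norm_num
  · simp only [Bool.false_eq_true, if_false, if_true]
    rw [im_g0]
  · simp only [if_true]
    rw [coe_op im_g0i]; norm_num

theorem mem_N_of {g : Spor.Co2} (h : Fr (im g)) : g ∈ N := mem_N_iff.2 h

theorem not_fr {v : leechLattice} {a b c d : ℤ} (hv : (v : GolayPt → ℤ) = tet a b c d) (hb : b ≠ 0) : ¬ Fr v := by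
  rintro (rfl | rfl)
  · have h1 := congrFun (hv.symm.trans coe_e8) (pt 4)
    rw [tet_four, tet_four] at h1
    exact hb h1
  · have h1 := congrFun (hv.symm.trans coe_e8') (pt 4)
    rw [tet_four, tet_four] at h1
    exact hb h1

theorem g0_not : g0 ∉ N := fun h => not_fr im_g0 (by norm_num) (mem_N_iff.1 h)

theorem g0i_not : g0⁻¹ ∉ N := fun h => g0_not (by have := N.inv_mem h; rwa [inv_inv] at this)

theorem im_mul (a b : Spor.Co2) : im (a * b) = toCo0 a • im b := by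
  rw [im_def, im_def, map_mul, mul_smul]

theorem eq_A {m : ℕ} (hm : inE m = true) (h : m.testBit 4 = m.testBit 10) : g0⁻¹ * ge m * g0 ∈ N := by
  apply mem_N_of
  rw [mul_assoc, im_mul, im_mul, ge_u2 hm, ← h]
  cases m.testBit 4
  · simp only [Bool.false_eq_true, if_false]
    rw [ismul_u2]; exact fr_e8
  · simp only [if_true]
    rw [op_smul, ismul_u2]; exact fr_op

theorem eq_B {m : ℕ} (hm : inE m = true) (h : m.testBit 4 = m.testBit 10) : g0 * ge m * g0⁻¹ ∈ N := by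
  apply mem_N_of
  rw [mul_assoc, im_mul, im_mul, ge_u hm, ← h]
  cases m.testBit 4
  · simp only [Bool.false_eq_true, if_false]
    rw [smul_u]; exact fr_e8
  · simp only [if_true]
    rw [op_smul, smul_u]; exact fr_op

theorem ne_A {m : ℕ} (hm : inE m = true) (h : m.testBit 4 ≠ m.testBit 10) : g0 * ge m * g0 ∈ N := by
  apply mem_N_of
  rw [mul_assoc, im_mul, im_mul, ge_u2 hm]
  revert h
  cases m.testBit 4 <;> cases m.testBit 10 <;> intro h
  · exact absurd rfl h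
  · simp only [Bool.false_eq_true, if_false, if_true]
    rw [op_smul, smul_u]; exact fr_op
  · simp only [Bool.false_eq_true, if_false, if_true]
    rw [smul_u]; exact fr_e8
  · exact absurd rfl h

theorem ne_B {m : ℕ} (hm : inE m = true) (h : m.testBit 4 ≠ m.testBit 10) : g0⁻¹ * ge m * g0⁻¹ ∈ N := by
  apply mem_N_of
  rw [mul_assoc, im_mul, im_mul, ge_u hm]
  revert h
  cases m.testBit 4 <;> cases m.testBit 10 <;> intro h
  · exact absurd rfl h
  · simp only [Bool.false_eq_true, if_false, if_true]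
    rw [op_smul, ismul_u2]; exact fr_op
  · simp only [Bool.false_eq_true, if_false, if_true]
    rw [ismul_u2]; exact fr_e8
  · exact absurd rfl h

theorem ne_C {m : ℕ} (hm : inE m = true) (h : m.testBit 4 ≠ m.testBit 10) : g0⁻¹ * ge m * g0 ∉ N := by
  intro hN
  have h1 := mem_N_iff.1 hN
  rw [mul_assoc, im_mul, im_mul, ge_u2 hm] at h1
  revert h1 h
  cases m.testBit 4 <;> cases m.testBit 10 <;> intro h h1
  · exact h rfl
  · simp only [Bool.false_eq_true, if_false, if_true] at h1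
    rw [op_smul, ismul_u] at h1
    exact not_fr (coe_op im_g0) (by norm_num) h1
  · simp only [Bool.false_eq_true, if_false, if_true] at h1
    rw [ismul_u] at h1
    exact not_fr im_g0 (by norm_num) h1
  · exact h rfl

/-! ### the parabolic -/

/-- the three cosets -/
def S3 : Set (Spor.Co2 ⧸ N) :=
  {((1 : Spor.Co2) : Spor.Co2 ⧸ N), (g0 : Spor.Co2 ⧸ N), ((g0⁻¹ : Spor.Co2) : Spor.Co2 ⧸ N)}

theorem S3_fin : S3.Finite := Set.toFinite _

open scoped Pointwise in
/-- the parabolic -/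
def PP : Subgroup Spor.Co2 := MulAction.stabilizer Spor.Co2 S3

theorem mem_PP {g : Spor.Co2} : g ∈ PP ↔ ∀ ⦃b⦄, b ∈ S3 → g • b ∈ S3 := MulAction.mem_stabilizer_set' S3_fin

theorem mk_eq {a b : Spor.Co2} : (a : Spor.Co2 ⧸ N) = (b : Spor.Co2 ⧸ N) ↔ a⁻¹ * b ∈ N := QuotientGroup.eq

theorem mk_one_mem : ((1 : Spor.Co2) : Spor.Co2 ⧸ N) ∈ S3 := Or.inl rfl

theorem mk_g0_mem : (g0 : Spor.Co2 ⧸ N) ∈ S3 := Or.inr (Or.inl rfl)

theorem mk_g0i_mem : ((g0⁻¹ : Spor.Co2) : Spor.Co2 ⧸ N) ∈ S3 := Or.inr (Or.inr rfl)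

theorem smul_mk (a b : Spor.Co2) : a • (b : Spor.Co2 ⧸ N) = ((a * b : Spor.Co2) : Spor.Co2 ⧸ N) := rfl

theorem g0_mem : g0 ∈ PP := by
  rw [mem_PP]
  rintro b (rfl | rfl | rfl)
  · rw [smul_mk, mul_one]; exact mk_g0_mem
  · rw [smul_mk, g0_mul]; exact mk_g0i_mem
  · rw [smul_mk, mul_inv_cancel]; exact mk_one_mem

theorem fix_of {g b : Spor.Co2} (h : b⁻¹ * g * b ∈ N) : g • (b : Spor.Co2 ⧸ N) = (b : Spor.Co2 ⧸ N) := by
  rw [smul_mk, eq_comm, mk_eq, ← mul_assoc]; exact h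

theorem Xf_fix {m : ℕ} (hm : inE m = true) (h : m.testBit 4 = m.testBit 10) {b : Spor.Co2 ⧸ N} (hb : b ∈ S3) :
    ge m • b = b := by
  rcases hb with rfl | rfl | rfl
  · exact fix_of (by rw [inv_one, one_mul, mul_one]; exact E_le_N (ge_mem hm))
  · exact fix_of (eq_A hm h)
  · exact fix_of (by rw [inv_inv]; exact eq_B hm h)

/-- **`E ≤ P`** -/
theorem X_P : E ≤ PP := by
  rintro _ ⟨m, hm, rfl⟩
  show ge m ∈ PP
  rw [mem_PP]
  by_cases h : m.testBit 4 = m.testBit 10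
  · intro b hb
    rw [Xf_fix hm h hb]; exact hb
  · rintro b (rfl | rfl | rfl)
    · rw [fix_of (by rw [inv_one, one_mul, mul_one]; exact E_le_N (ge_mem hm))]
      exact mk_one_mem
    · have : ge m • (g0 : Spor.Co2 ⧸ N) = ((g0⁻¹ : Spor.Co2) : Spor.Co2 ⧸ N) := by
        rw [smul_mk, eq_comm, mk_eq, inv_inv, ← mul_assoc]; exact ne_A hm h
      rw [this]; exact mk_g0i_mem
    · have : ge m • ((g0⁻¹ : Spor.Co2) : Spor.Co2 ⧸ N) = (g0 : Spor.Co2 ⧸ N) := by
        rw [smul_mk, eq_comm, mk_eq, ← mul_assoc]; exact ne_B hm h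
      rw [this]; exact mk_g0_mem

theorem ncard_S3 : S3.ncard = 3 := by
  have h1 : ((1 : Spor.Co2) : Spor.Co2 ⧸ N) ≠ (g0 : Spor.Co2 ⧸ N) := by
    rw [Ne, mk_eq, inv_one, one_mul]; exact g0_not
  have h2 : ((1 : Spor.Co2) : Spor.Co2 ⧸ N) ≠ ((g0⁻¹ : Spor.Co2) : Spor.Co2 ⧸ N) := by
    rw [Ne, mk_eq, inv_one, one_mul]; exact g0i_not
  have h3 : (g0 : Spor.Co2 ⧸ N) ≠ ((g0⁻¹ : Spor.Co2) : Spor.Co2 ⧸ N) := by
    rw [Ne, mk_eq, g0i_mul]; exact g0_not
  exact Set.ncard_eq_three.2 ⟨_, _, _, h1, h2, h3, rfl⟩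

/-- **`|P : P ∩ N| = 3`** -/
theorem P_ind : (PP ⊓ normalizer (E : Set Spor.Co2)).relIndex PP = 3 := by
  rw [inf_relIndex_left]
  have h1 : MulAction.stabilizer PP ((1 : Spor.Co2) : Spor.Co2 ⧸ N) = N.subgroupOf PP := by
    ext g
    rw [MulAction.mem_stabilizer_iff, Subgroup.mem_subgroupOf]
    show (g : Spor.Co2) • ((1 : Spor.Co2) : Spor.Co2 ⧸ N) = _ ↔ _
    rw [smul_mk, eq_comm, mk_eq, inv_one, one_mul, mul_one]
  have h2 : MulAction.orbit PP ((1 : Spor.Co2) : Spor.Co2 ⧸ N) = S3 := by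
    apply Set.Subset.antisymm
    · rintro _ ⟨g, rfl⟩
      exact mem_PP.1 g.2 mk_one_mem
    · rintro b (rfl | rfl | rfl)
      · exact ⟨1, one_smul _ _⟩
      · refine ⟨⟨g0, g0_mem⟩, ?_⟩
        show g0 • ((1 : Spor.Co2) : Spor.Co2 ⧸ N) = _
        rw [smul_mk, mul_one]
      · refine ⟨⟨g0⁻¹, PP.inv_mem g0_mem⟩, ?_⟩
        show g0⁻¹ • ((1 : Spor.Co2) : Spor.Co2 ⧸ N) = _
        rw [smul_mk, mul_one]
  have h3 := MulAction.index_stabilizer PP ((1 : Spor.Co2) : Spor.Co2 ⧸ N)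
  rw [h1, h2, ncard_S3] at h3
  exact h3

/-- **`Ξ_f` is the kernel of `E` on the three cosets.** -/
theorem Xf_def (g : Spor.Co2) : g ∈ Xf ↔ g ∈ E ∧ ∀ p ∈ PP, p * g * p⁻¹ ∈ normalizer (E : Set Spor.Co2) := by
  constructor
  · rintro ⟨m, hm, h, rfl⟩
    refine ⟨ge_mem hm, fun p hp => ?_⟩
    have h1 : p⁻¹ • ((1 : Spor.Co2) : Spor.Co2 ⧸ N) ∈ S3 := mem_PP.1 (PP.inv_mem hp) mk_one_mem
    have h2 := Xf_fix hm h h1
    rw [smul_mk, smul_mk, mul_one, eq_comm, mk_eq, inv_inv, ← mul_assoc] at h2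
    exact h2
  · rintro ⟨⟨m, hm, rfl⟩, h⟩
    refine ⟨m, hm, ?_, rfl⟩
    by_contra hc
    have h1 := h g0⁻¹ (PP.inv_mem g0_mem)
    rw [inv_inv] at h1
    exact ne_C hm hc h1

end Cfsg.Agent.Omega.CoTwoK.Sextet
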