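import Cfsg.Agent.Omega.EH3.CoTwo.Facts
import Cfsg.Agent.Omega.CoTwoK.Gen
import Cfsg.Agent.Omega.CoTwoK.Sextet
import Cfsg.Agent.Omega.CoTwoK.Point
import Cfsg.Agent.Co2Type.CardCo2

/-!
# EH3, row `Co₂`: the facts on `K = Spor.Co2` (helper904, helper962)

`coFacts : CoFacts E Xi Xf PP`.
-/

set_option autoImplicit false
set_option linter.dupNamespace false

namespace Cfsg.Agent.Omega.CoTwoK.Main

open Cfsg Cfsg.Agent.Co2Type.TGroup Cfsg.Agent.Omega.CoTwoK.Normal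
open Cfsg.Agent.Omega.EH3.CoTwo

theorem r89 : ¬ 89 ∣ Nat.card Spor.Co2 := by
  rw [Cfsg.Agent.Co2Type.CardCo2.card_co2]
  norm_num

theorem coFacts : CoFacts (E : Subgroup Spor.Co2) Xi Xf Sextet.PP where
  card := Cfsg.Agent.Co2Type.TCard.card_E
  r89 := r89
  irr := fun _ h1 h2 h3 => Gen.irr h1 h2 h3
  pi_le := Xi_le
  pi_card := card_Xi
  pi_ind := Point.pi_ind
  pi_two := Point.pi_two
  pi_min := fun _ h1 h2 h3 => Gen.pi_min h1 h2 h3
  pi_cen := Point.pi_cen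
  X_P := Sextet.X_P
  P_ind := Sextet.P_ind
  Xf_def := Sextet.Xf_def
  f_uniq := fun _ h1 h2 h3 => Gen.f_uniq h1 h2 h3
  f_max := fun _ h1 h2 h3 => Gen.f_max h1 h2 h3
  f_ne := Xi_ne_Xf

end Cfsg.Agent.Omega.CoTwoK.Main
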