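import Cfsg.Agent.Omega.CoTwoK.Main
import Cfsg.Agent.Omega.CoTwoK.Conj

/-!
# The facts for every group isomorphic to `Spor.Co2` (helper904)

`coFacts_of` : `H ≃* Spor.Co2`, `X` elementary abelian of order `2^10`, normal in a Sylow 2-subgroup of `H`:
the facts `CoFacts X Xi Xf P` hold for some `Xi`, `Xf`, `P`.
-/

set_option autoImplicit false
set_option linter.dupNamespace false

namespace Cfsg.Agent.Omega.CoTwoK.Of

open Cfsg Cfsg.Agent.Co2Type.TGroup Cfsg.Agent.Omega.EH3.CoTwo
open Subgroup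
open scoped Pointwise

section

variable {H K : Type*} [Group H] [Group K] (e : H ≃* K)

/-- inverse image -/
abbrev cm (A : Subgroup K) : Subgroup H := A.comap e.toMonoidHom

theorem mem_cm {A : Subgroup K} {x : H} : x ∈ cm e A ↔ e x ∈ A := Iff.rfl

theorem map_cm (A : Subgroup K) : (cm e A).map e.toMonoidHom = A := map_comap_eq_self_of_surjective e.surjective A

theorem cm_map (Y : Subgroup H) : cm e (Y.map e.toMonoidHom) = Y := comap_map_eq_self_of_injective e.injective Y

theorem cm_le {A B : Subgroup K} : cm e A ≤ cm e B ↔ A ≤ B := comap_le_comap_of_surjective e.surjective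

theorem cm_inj {A B : Subgroup K} : cm e A = cm e B ↔ A = B :=
  ⟨fun h => le_antisymm ((cm_le e).1 h.le) ((cm_le e).1 h.ge), fun h => by rw [h]⟩

theorem nz (A : Subgroup K) : normalizer (cm e A : Set H) = cm e (normalizer (A : Set K)) := by
  ext g
  rw [mem_cm, mem_normalizer_iff, mem_normalizer_iff]
  constructor
  · intro h x
    have h1 := h (e.symm x)
    rw [mem_cm, mem_cm, map_mul, map_mul, map_inv, e.apply_symm_apply] at h1
    exact h1
  · intro h x
    rw [mem_cm, mem_cm, map_mul, map_mul, map_inv]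
    exact h (e x)

theorem cz (A : Subgroup K) : centralizer (cm e A : Set H) = cm e (centralizer (A : Set K)) := by
  ext g
  rw [mem_cm, mem_centralizer_iff, mem_centralizer_iff]
  constructor
  · intro h x hx
    have h1 := h (e.symm x) (by show e (e.symm x) ∈ A; rw [e.apply_symm_apply]; exact hx)
    have h2 := congrArg e h1
    rwa [map_mul, map_mul, e.apply_symm_apply] at h2
  · intro h x hx
    apply e.injective
    rw [map_mul, map_mul]
    exact h (e x) hx

theorem cm_card (A : Subgroup K) : Nat.card (cm e A) = Nat.card A := by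
  have h := Nat.card_congr (equivMapOfInjective (cm e A) e.toMonoidHom e.injective).toEquiv
  rw [h, map_cm]

theorem cm_relIndex (A B : Subgroup K) : (cm e A).relIndex (cm e B) = A.relIndex B := by
  rw [relIndex_comap, map_cm]

theorem cm_inf (A B : Subgroup K) : cm e A ⊓ cm e B = cm e (A ⊓ B) := (comap_inf A B _).symm

theorem cm_bot {A : Subgroup K} (h : cm e A ≠ ⊥) : A ≠ ⊥ := by
  rintro rfl
  apply h
  rw [eq_bot_iff]
  intro x hx
  have h1 : e x = 1 := hx
  exact e.injective (h1.trans e.map_one.symm)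

theorem cm_isPGroup {A : Subgroup K} (h : IsPGroup 2 (cm e A)) : IsPGroup 2 A := by
  have h1 := h.map e.toMonoidHom
  rwa [map_cm] at h1

/-- transport of the facts -/
theorem CoFacts.cm {X Xi Xf P : Subgroup K} (F : CoFacts X Xi Xf P) :
    CoFacts (cm e X) (Of.cm e Xi) (Of.cm e Xf) (Of.cm e P) where
  card := (cm_card e X).trans F.card
  r89 := by rw [Nat.card_congr e.toEquiv]; exact F.r89
  irr := by
    intro Y hY hb hn
    obtain ⟨A, rfl⟩ : ∃ A : Subgroup K, Of.cm e A = Y := ⟨_, cm_map e Y⟩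
    rw [nz, nz, cm_le] at hn
    exact (cm_inj e).2 (F.irr A ((cm_le e).1 hY) (cm_bot e hb) hn)
  pi_le := (cm_le e).2 F.pi_le
  pi_card := (cm_card e Xi).trans F.pi_card
  pi_ind := by rw [nz, nz, cm_inf, cm_relIndex]; exact F.pi_ind
  pi_two := by
    intro U hU h2 hn
    obtain ⟨A, rfl⟩ : ∃ A : Subgroup K, Of.cm e A = U := ⟨_, cm_map e U⟩
    rw [nz, nz, cm_inf, cm_le] at hU
    rw [nz, nz, nz, cm_inf, cm_le] at hn
    exact (cm_le e).2 (F.pi_two A hU (cm_isPGroup e h2) hn)
  pi_min := by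
    intro Y hY hb hn
    obtain ⟨A, rfl⟩ : ∃ A : Subgroup K, Of.cm e A = Y := ⟨_, cm_map e Y⟩
    rw [nz, nz, nz, cm_inf, cm_le] at hn
    exact (cm_le e).2 (F.pi_min A ((cm_le e).1 hY) (cm_bot e hb) hn)
  pi_cen := by rw [nz, cz, cm_inf, cm_le]; exact F.pi_cen
  X_P := (cm_le e).2 F.X_P
  P_ind := by rw [nz, cm_inf, cm_relIndex]; exact F.P_ind
  Xf_def := by
    intro x
    rw [mem_cm, F.Xf_def, mem_cm, nz]
    refine and_congr_right fun _ => ?_
    constructor
    · intro h g hg
      rw [mem_cm, map_mul, map_mul, map_inv]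
      exact h _ hg
    · intro h g hg
      have h1 := h (e.symm g) (by show e (e.symm g) ∈ P; rw [e.apply_symm_apply]; exact hg)
      rwa [mem_cm, map_mul, map_mul, map_inv, e.apply_symm_apply] at h1
  f_uniq := by
    intro Y hY hc hn
    obtain ⟨A, rfl⟩ : ∃ A : Subgroup K, Of.cm e A = Y := ⟨_, cm_map e Y⟩
    rw [nz, nz, nz, cm_inf, cm_le] at hn
    rw [cm_card] at hc
    exact (cm_inj e).2 (F.f_uniq A ((cm_le e).1 hY) hc hn)
  f_max := by
    intro R hR hne hn
    obtain ⟨A, rfl⟩ : ∃ A : Subgroup K, Of.cm e A = R := ⟨_, cm_map e R⟩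
    rw [nz, nz, nz, cm_inf, cm_le] at hn
    exact (cm_le e).2 (F.f_max A ((cm_le e).1 hR) (fun h => hne (by rw [h])) hn)
  f_ne := fun h => F.f_ne ((cm_inj e).1 h)

end

/-- **the facts for a group isomorphic to `Spor.Co2`** -/
theorem coFacts_of {H : Type*} [Group H] (e : H ≃* Spor.Co2) (S : Sylow 2 H) {X : Subgroup H} (hX : X ≤ S)
    (hn : (S : Subgroup H) ≤ normalizer (X : Set H)) (hsq : ∀ x ∈ X, x * x = 1) (hc : Nat.card X = 2 ^ 10) :
    ∃ Xi Xf P : Subgroup H, CoFacts X Xi Xf P := by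
  have hfin : Finite Spor.Co2 := inferInstance
  have h2 : Fact (Nat.Prime 2) := ⟨Nat.prime_two⟩
  -- the Sylow subgroup
  have hS' : ∃ S' : Sylow 2 Spor.Co2, (S' : Subgroup Spor.Co2) = (S : Subgroup H).map e.toMonoidHom := by
    have hS2 : IsPGroup 2 ((S : Subgroup H).map e.toMonoidHom) := S.2.map _
    refine ⟨⟨_, hS2, ?_⟩, rfl⟩
    intro Q hQ hle
    have h1 : IsPGroup 2 (Q.comap e.toMonoidHom) := hQ.comap_of_injective _ e.injective
    have h3 : (S : Subgroup H) ≤ Q.comap e.toMonoidHom := map_le_iff_le_comap.1 hle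
    have h4 := S.3 h1 h3
    rw [← h4, map_comap_eq_self_of_surjective e.surjective]
  obtain ⟨S', hS'⟩ := hS'
  obtain ⟨g, hg⟩ := Conj.exists_conj S' (X := X.map e.toMonoidHom)
    (by rw [hS']; exact map_mono hX)
    (by
      rw [hS']
      rintro _ ⟨s, hs, rfl⟩
      apply mem_normalizer_fintype
      rintro _ ⟨x, hx, rfl⟩
      refine ⟨s * x * s⁻¹, (mem_normalizer_iff.1 (hn hs) x).1 hx, ?_⟩
      rw [map_mul, map_mul, map_inv])
    (by
      rintro _ ⟨x, hx, rfl⟩
      rw [← map_mul, hsq x hx, map_one])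
    (by
      rw [← hc]
      exact Nat.card_congr (equivMapOfInjective X _ e.injective).symm.toEquiv)
  set f : H ≃* Spor.Co2 := e.trans (MulAut.conj g) with hf
  have h1 : cm f E = X := by
    have h3 : X.map f.toMonoidHom = E := by
      rw [← hg, map_map]; rfl
    rw [← h3, cm_map]
  have h3 := CoFacts.cm f Main.coFacts
  rw [h1] at h3
  exact ⟨_, _, _, h3⟩

end Cfsg.Agent.Omega.CoTwoK.Of
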