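import Cfsg.Agent.Co2Type.FactsD

/-!
# The 22 hyperplanes `Xb j` of `E` (helper962, row `Co₂` of EH3)

`E ≤ Spor.Co2` is the group of the sign changes on the code words avoiding the points of index 0 and 23;
`Xb j` the subgroup of the words avoiding `j`.  Let `N` be a subgroup all of whose elements are monomial (`mo2 m Q`) and
which contains all monomial elements (`N = N(E)`).
-/

set_option autoImplicit false

namespace Cfsg.Agent.Omega.CoTwoK.Point

open Cfsg Cfsg.Agent.SporadicA.GolayBase Cfsg.Agent.SporadicA.GolayPerm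
open Cfsg.Agent.SporadicStructure.M24El
open Cfsg.Agent.Co2Type.Mono Cfsg.Agent.Co2Type.TGroup Cfsg.Agent.Co2Type.TData Cfsg.Agent.Co2Type.FactsD
open scoped Pointwise

/-! ### words and permutations -/

theorem ge_inj {m n : ℕ} (hm : inE m = true) (hn : inE n = true) (h : ge m = ge n) : m = n :=
  (mo2_inj hm hn okP_idP okP_idP idP_lt idP_lt h).1

theorem conj_ge {m n Q : ℕ} (hm : inE m = true) (hn : inE n = true) (hQ : okP Q = true)
    (h : Q < 2 ^ 120) : mo2 m Q * ge n * (mo2 m Q)⁻¹ = ge (pimg Q n) := by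
  unfold ge
  rw [mo2_conj_E hm hn hQ h, mul_inv_cancel_right]

/-- `okP` permutations preserve the points `1, ..., 22` -/
theorem papp_range {Q : ℕ} (hQ : okP Q = true) {j : ℕ} (h1 : 1 ≤ j) (h2 : j ≤ 22) :
    1 ≤ papp Q j ∧ papp Q j ≤ 22 := by
  have h := okP_iff.1 hQ
  have hp := isPerm_of_ok h.1
  have hlt := papp_lt hp (show j < 24 by omega)
  have e0 : papp Q j ≠ papp Q 0 := fun e => by
    have := papp_injOn hp (by omega) (by norm_num) e; omega
  have e23 : papp Q j ≠ papp Q 23 := fun e => by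
    have := papp_injOn hp (by omega) (by norm_num) e; omega
  rcases h.2 with ⟨h3, h4⟩ | ⟨h3, h4⟩ <;> rw [h3] at e0 <;> rw [h4] at e23 <;> omega

/-- an `okP` permutation fixing the points `1, ..., 22` is the identity -/
theorem eq_idP {Q : ℕ} (hQ : okP Q = true) (hlt : Q < 2 ^ 120)
    (h : ∀ j, 1 ≤ j → j ≤ 22 → papp Q j = j) : Q = idP := by
  have hk := okP_iff.1 hQ
  have hp := isPerm_of_ok hk.1
  have hid : ∀ i, i < 24 → papp idP i = i := by decide +kernel
  rcases hk.2 with ⟨h0, h23⟩ | ⟨h0, h23⟩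
  · apply eq_of_papp 24 Q idP (lt_of_lt_of_eq hlt (by norm_num)) (lt_of_lt_of_eq idP_lt (by norm_num))
    intro i hi
    rw [hid i hi]
    rcases Nat.eq_zero_or_pos i with rfl | h1
    · exact h0
    · by_cases h2 : i ≤ 22
      · exact h i h1 h2
      · have : i = 23 := by omega
        subst this
        exact h23
  · exfalso
    -- a transposition does not preserve the code
    have hc : isCode 13938692 = true := by decide +kernel
    have e : pimg Q 13938692 = 5550085 := by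
      unfold pimg
      rw [h0, h23, h 1 (by norm_num) (by norm_num), h 2 (by norm_num) (by norm_num),
        h 3 (by norm_num) (by norm_num), h 4 (by norm_num) (by norm_num),
        h 5 (by norm_num) (by norm_num), h 6 (by norm_num) (by norm_num),
        h 7 (by norm_num) (by norm_num), h 8 (by norm_num) (by norm_num),
        h 9 (by norm_num) (by norm_num), h 10 (by norm_num) (by norm_num),
        h 11 (by norm_num) (by norm_num), h 12 (by norm_num) (by norm_num),
        h 13 (by norm_num) (by norm_num), h 14 (by norm_num) (by norm_num),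
        h 15 (by norm_num) (by norm_num), h 16 (by norm_num) (by norm_num),
        h 17 (by norm_num) (by norm_num), h 18 (by norm_num) (by norm_num),
        h 19 (by norm_num) (by norm_num), h 20 (by norm_num) (by norm_num),
        h 21 (by norm_num) (by norm_num), h 22 (by norm_num) (by norm_num)]
      decide +kernel
    have h1 := isCode_pimg hk.1 hc
    rw [e] at h1
    exact absurd h1 (by decide +kernel)

/-- inverse -/
theorem exists_inv' {Q : ℕ} (hQ : okP Q = true) : ∃ Q', okP Q' = true ∧ Q' < 2 ^ 120 ∧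
    pcomp Q Q' = idP ∧ pcomp Q' Q = idP := by
  obtain ⟨Q', h1, h2, h3⟩ := exists_el (el Q)⁻¹
  have hk := okP_iff.1 hQ
  have hid : ∀ i, i < 24 → papp idP i = i := by decide +kernel
  have e1 : pcomp Q Q' = idP := by
    apply el_inj (ok_pcomp hk.1 h1) ok_idP (pcomp_lt _ _) idP_lt
    rw [el_pcomp hk.1 h1, h3, mul_inv_cancel, el_idP]
  have e2 : pcomp Q' Q = idP := by
    apply el_inj (ok_pcomp h1 hk.1) ok_idP (pcomp_lt _ _) idP_lt
    rw [el_pcomp h1 hk.1, h3, inv_mul_cancel, el_idP]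
  refine ⟨Q', okP_iff.2 ⟨h1, ?_⟩, h2, e1, e2⟩
  have k0 : papp Q' (papp Q 0) = 0 := by
    rw [← papp_pcomp Q' Q (by norm_num), e2]; exact hid 0 (by norm_num)
  have k23 : papp Q' (papp Q 23) = 23 := by
    rw [← papp_pcomp Q' Q (by norm_num), e2]; exact hid 23 (by norm_num)
  rcases hk.2 with ⟨h4, h5⟩ | ⟨h4, h5⟩
  · rw [h4] at k0
    rw [h5] at k23
    exact Or.inl ⟨k0, k23⟩
  · rw [h4] at k0
    rw [h5] at k23
    exact Or.inr ⟨k23, k0⟩

theorem pimg_idP' {n : ℕ} (hn : isCode n = true) : pimg idP n = n := by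
  have hp := isPerm_of_ok ok_idP
  have hid : ∀ i, i < 24 → papp idP i = i := by decide +kernel
  apply eq_of_testBit_idx (pimg_lt hp _) (isCode_lt hn)
  intro i
  have h1 := testBit_pimg_papp hp n (idx_lt i)
  rwa [hid _ (idx_lt i)] at h1

theorem exists_pre {Q n : ℕ} (hQ : okP Q = true) (hn : inE n = true) :
    ∃ n', inE n' = true ∧ pimg Q n' = n := by
  obtain ⟨Q', h1, h2, h3, h4⟩ := exists_inv' hQ
  refine ⟨pimg Q' n, inE_pimg h1 hn, ?_⟩
  rw [← pimg_pcomp (isPerm_of_ok (ok_of_okP hQ)) (isPerm_of_ok (ok_of_okP h1)), h3,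
    pimg_idP' (isCode_of_inE hn)]

/-! ### the hyperplanes -/

/-- the words avoiding the point `j` -/
def Xb (j : ℕ) : Subgroup Spor.Co2 where
  carrier := {g | ∃ m, inE m = true ∧ m.testBit j = false ∧ g = ge m}
  one_mem' := ⟨0, inE_zero, Nat.zero_testBit j, ge_zero.symm⟩
  mul_mem' := by
    rintro _ _ ⟨m, hm, hm', rfl⟩ ⟨n, hn, hn', rfl⟩
    exact ⟨_, inE_xor hm hn, by rw [Nat.testBit_xor, hm', hn']; rfl, ge_mul hm hn⟩
  inv_mem' := by
    rintro _ ⟨m, hm, hm', rfl⟩
    exact ⟨m, hm, hm', inv_eq_of_mul_eq_one_left (ge_sq hm)⟩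

theorem mem_Xb {j : ℕ} {g : Spor.Co2} :
    g ∈ Xb j ↔ ∃ m, inE m = true ∧ m.testBit j = false ∧ g = ge m := Iff.rfl

theorem ge_mem_Xb {j m : ℕ} (hm : inE m = true) : ge m ∈ Xb j ↔ m.testBit j = false := by
  constructor
  · rintro ⟨n, hn, hnj, h⟩
    rw [ge_inj hm hn h]
    exact hnj
  · intro h
    exact ⟨m, hm, h, rfl⟩

theorem Xb_le (j : ℕ) : Xb j ≤ E := by
  rintro _ ⟨m, hm, _, rfl⟩
  exact ge_mem hm

/-- words separating the points -/
def sepW : List ℕ := [229096, 3981774, 4521254, 8077824, 733006, 7780768, 2168036, 1635050, 351362, 198058, 10558,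
  252432, 21116]

theorem sepW_ok : (sepW.all fun m => inE m) = true := by decide +kernel

theorem sepW_sep : ((List.range' 1 22).all fun k => (List.range' 1 22).all fun l =>
    Nat.beq k l || sepW.any fun m => m.testBit k && !m.testBit l) = true := by decide +kernel

theorem sepW_sep4 : ((List.range' 1 22).all fun k => (List.range' 1 22).all fun l =>
    Nat.beq k l || Nat.beq k 4 || sepW.any fun m => m.testBit k && !m.testBit l && !m.testBit 4) = true := by
  decide +kernel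

theorem mem_range22 {k : ℕ} (h1 : 1 ≤ k) (h2 : k ≤ 22) : k ∈ List.range' 1 22 := by
  rw [List.mem_range'_1]; omega

theorem exists_sep {k l : ℕ} (hk1 : 1 ≤ k) (hk2 : k ≤ 22) (hl1 : 1 ≤ l) (hl2 : l ≤ 22) (h : k ≠ l) :
    ∃ m, inE m = true ∧ m.testBit k = true ∧ m.testBit l = false := by
  have h1 := List.all_eq_true.1 sepW_sep k (mem_range22 hk1 hk2)
  have h2 := List.all_eq_true.1 h1 l (mem_range22 hl1 hl2)
  rw [Bool.or_eq_true, List.any_eq_true] at h2
  rcases h2 with h2 | ⟨m, hm, h2⟩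
  · exact absurd (Nat.eq_of_beq_eq_true h2) h
  · rw [Bool.and_eq_true, Bool.not_eq_true'] at h2
    exact ⟨m, List.all_eq_true.1 sepW_ok m hm, h2.1, h2.2⟩

theorem exists_sep4 {k l : ℕ} (hk1 : 1 ≤ k) (hk2 : k ≤ 22) (hl1 : 1 ≤ l) (hl2 : l ≤ 22) (h : k ≠ l)
    (hk4 : k ≠ 4) : ∃ m, inE m = true ∧ m.testBit k = true ∧ m.testBit l = false ∧ m.testBit 4 = false := by
  have h1 := List.all_eq_true.1 sepW_sep4 k (mem_range22 hk1 hk2)
  have h2 := List.all_eq_true.1 h1 l (mem_range22 hl1 hl2)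
  rw [Bool.or_eq_true, Bool.or_eq_true, List.any_eq_true] at h2
  rcases h2 with (h2 | h2) | ⟨m, hm, h2⟩
  · exact absurd (Nat.eq_of_beq_eq_true h2) h
  · exact absurd (Nat.eq_of_beq_eq_true h2) hk4
  · rw [Bool.and_eq_true, Bool.and_eq_true, Bool.not_eq_true', Bool.not_eq_true'] at h2
    exact ⟨m, List.all_eq_true.1 sepW_ok m hm, h2.1.1, h2.1.2, h2.2⟩

theorem Xb_inj {k l : ℕ} (hk1 : 1 ≤ k) (hk2 : k ≤ 22) (hl1 : 1 ≤ l) (hl2 : l ≤ 22) (h : Xb k = Xb l) :
    k = l := by
  by_contra hne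
  obtain ⟨m, hm, h1, h2⟩ := exists_sep hk1 hk2 hl1 hl2 hne
  have h3 : ge m ∈ Xb k := h ▸ (ge_mem_Xb hm).2 h2
  rw [ge_mem_Xb hm, h1] at h3
  exact absurd h3 (by decide)

/-- conjugation -/
theorem conj_Xb {m Q : ℕ} (hm : inE m = true) (hQ : okP Q = true) (h : Q < 2 ^ 120) {j : ℕ}
    (hj : j < 24) : MulAut.conj (mo2 m Q) • Xb j = Xb (papp Q j) := by
  have hp := isPerm_of_ok (ok_of_okP hQ)
  have key : ∀ n, inE n = true → n.testBit j = false → mo2 m Q * ge n * (mo2 m Q)⁻¹ ∈ Xb (papp Q j) := by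
    intro n hn hnj
    rw [conj_ge hm hn hQ h]
    refine ⟨_, inE_pimg hQ hn, ?_, rfl⟩
    rw [testBit_pimg_papp hp n hj, hnj]
  ext g
  rw [Subgroup.mem_smul_pointwise_iff_exists]
  constructor
  · rintro ⟨x, ⟨n, hn, hnj, rfl⟩, rfl⟩
    exact key n hn hnj
  · rintro ⟨n, hn, hnj, rfl⟩
    obtain ⟨n', hn', rfl⟩ := exists_pre hQ hn
    refine ⟨ge n', (ge_mem_Xb hn').2 ?_, ?_⟩
    · rwa [testBit_pimg_papp hp n' hj] at hnj
    · exact conj_ge hm hn' hQ h

end Cfsg.Agent.Omega.CoTwoK.Point
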