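import Cfsg.Agent.Omega.CoTwoK.PointBase

/-!
# The fields `pi_ind`, `pi_two`, `pi_cen` (helper962, row `Co₂` of EH3)

`N` is a subgroup of `Spor.Co2` consisting of all monomial elements (it is the normaliser of `E`); `Xb 4` the words
avoiding the point of index 4.
-/

set_option autoImplicit false

namespace Cfsg.Agent.Omega.CoTwoK.Point

open Cfsg Cfsg.Agent.SporadicA.GolayBase Cfsg.Agent.SporadicA.GolayPerm
open Cfsg.Agent.SporadicStructure.M24El
open Cfsg.Agent.Co2Type.Mono Cfsg.Agent.Co2Type.TGroup Cfsg.Agent.Co2Type.TData Cfsg.Agent.Co2Type.FactsD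
open Subgroup
open scoped Pointwise

/-- `N` is the group of the monomial elements -/
structure NN (N : Subgroup Spor.Co2) : Prop where
  ex : ∀ g ∈ N, ∃ m Q, inE m = true ∧ okP Q = true ∧ Q < 2 ^ 120 ∧ g = mo2 m Q
  mem : ∀ m Q, inE m = true → okP Q = true → Q < 2 ^ 120 → mo2 m Q ∈ N

theorem mem_norm_iff {G : Type*} [Group G] {S : Subgroup G} {g : G} :
    g ∈ normalizer (S : Set G) ↔ MulAut.conj g • S = S := by
  rw [mem_normalizer_iff]
  constructor
  · intro h
    ext x
    rw [mem_pointwise_smul_iff_inv_smul_mem, ← map_inv, MulAut.smul_def, MulAut.conj_apply, inv_inv]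
    rw [h (g⁻¹ * x * g)]
    have : g * (g⁻¹ * x * g) * g⁻¹ = x := by group
    rw [this]
  · intro h x
    constructor
    · intro hx
      rw [← h, ← MulAut.conj_apply, ← MulAut.smul_def]
      exact smul_mem_pointwise_smul _ _ _ hx
    · intro hx
      rw [← h, mem_pointwise_smul_iff_inv_smul_mem, ← map_inv, MulAut.smul_def, MulAut.conj_apply,
        inv_inv] at hx
      have : g⁻¹ * (g * x * g⁻¹) * g = x := by group
      rwa [this] at hx

/-- transversal: the permutations `4 ↦ j` -/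
def tr4 : List ℕ := [7277987393696714009175503439778007, 19858542701654297413754757877151895,
  983435041980113810609016900712224800, 984818244535754528103549039458486304, 14609061766979824677248677493486903,
  966352454537647764845276703660590560, 25559010966216279167837432823695831, 963234863385194148140160499873009952,
  959771647323463422270554298816072352, 17333319061003690702042180000187671, 13550039064159020506630624430901911,
  4302764333039848141261571709192375, 962621403492046636599529583312251936, 17550208603580013488347677852773079,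
  962304573221937102166180706249153792, 25502201696235843599827270015207639, 980961498779594295452722676802783520,
  11258300484524372673375182514110615, 20912972241735253688986190149658679, 29171931033524210258733142741469239,
  24846825968022034463888068564044087, 27804986926824354375361384845197623]

/-- transversal: the permutations `4 ↦ 4`, `1 ↦ j` -/
def tr1 : List ℕ := [984818244535754528103549039458486304, 978315899066723276807191484822800448,
  8328035679014027186878168655214711, 2980583404992854596143067718461623, 7019481630015051901787930865741015,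
  967984790385585480403795137255581920, 25541498956642104225835441434478871, 18622127190325874496707935820960055,
  23625970832601598737205494984980823, 19692009057563387540525814735493495, 29338072880504655245620957050950039,
  962248796373525125778648362459187616, 25525039304699397647261516727159255, 28155295446494017472038345197900279,
  7126775298054564099936913148951063, 6789601320766654097514672421034551, 17741376976819940535734027634284119,
  13569660762458545520699432453217911, 8439509237928437100764944144645783, 15711977271039919504307453255790263,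
  17700815212427297823120674055832279]

theorem tr4_ok : ((List.range' 1 22).all fun j => tr4.any fun P => okP P && Nat.blt P (2 ^ 120) &&
    Nat.beq (papp P 4) j) = true := by decide +kernel

theorem tr1_ok : ((List.range' 1 22).all fun j => Nat.beq j 4 || tr1.any fun P => okP P && Nat.blt P (2 ^ 120) &&
    Nat.beq (papp P 4) 4 && Nat.beq (papp P 1) j) = true := by decide +kernel

theorem exists_tr4 {j : ℕ} (h1 : 1 ≤ j) (h2 : j ≤ 22) :
    ∃ P, okP P = true ∧ P < 2 ^ 120 ∧ papp P 4 = j := by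
  have h := List.all_eq_true.1 tr4_ok j (mem_range22 h1 h2)
  rw [List.any_eq_true] at h
  obtain ⟨P, _, h⟩ := h
  rw [Bool.and_eq_true, Bool.and_eq_true, Nat.blt_eq] at h
  exact ⟨P, h.1.1, h.1.2, Nat.eq_of_beq_eq_true h.2⟩

theorem exists_tr1 {j : ℕ} (h1 : 1 ≤ j) (h2 : j ≤ 22) (h4 : j ≠ 4) :
    ∃ P, okP P = true ∧ P < 2 ^ 120 ∧ papp P 4 = 4 ∧ papp P 1 = j := by
  have h := List.all_eq_true.1 tr1_ok j (mem_range22 h1 h2)
  rw [Bool.or_eq_true, List.any_eq_true] at h
  rcases h with h | ⟨P, _, h⟩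
  · exact absurd (Nat.eq_of_beq_eq_true h) h4
  · rw [Bool.and_eq_true, Bool.and_eq_true, Bool.and_eq_true, Nat.blt_eq] at h
    exact ⟨P, h.1.1.1, h.1.1.2, Nat.eq_of_beq_eq_true h.1.2, Nat.eq_of_beq_eq_true h.2⟩

variable {N : Subgroup Spor.Co2}

theorem stab_iff {m Q j : ℕ} (hm : inE m = true) (hQ : okP Q = true) (h : Q < 2 ^ 120) (h1 : 1 ≤ j)
    (h2 : j ≤ 22) : mo2 m Q ∈ normalizer (Xb j : Set Spor.Co2) ↔ papp Q j = j := by
  rw [mem_norm_iff, conj_Xb hm hQ h (by omega)]
  constructor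
  · intro e
    have := papp_range hQ h1 h2
    exact Xb_inj this.1 this.2 h1 h2 e
  · intro e
    rw [e]

/-- **`pi_ind`** -/
theorem index22 (h : NN N) : (N ⊓ normalizer (Xb 4 : Set Spor.Co2)).relIndex N = 22 := by
  let _ : MulAction N (Subgroup Spor.Co2) := MulAction.compHom _ (MulAut.conj.comp N.subtype)
  have hsm : ∀ (g : N) (S : Subgroup Spor.Co2), g • S = MulAut.conj (g : Spor.Co2) • S := fun g S => rfl
  have h1 : MulAction.stabilizer N (Xb 4) = (N ⊓ normalizer (Xb 4 : Set Spor.Co2)).subgroupOf N := by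
    ext g
    rw [MulAction.mem_stabilizer_iff, mem_subgroupOf, mem_inf, mem_norm_iff, hsm]
    exact ⟨fun h => ⟨g.2, h⟩, fun h => h.2⟩
  have h2 : MulAction.orbit N (Xb 4) = Xb '' (Set.Icc 1 22) := by
    ext S
    constructor
    · rintro ⟨g, rfl⟩
      obtain ⟨m, Q, hm, hQ, hlt, hg⟩ := h.ex g g.2
      refine ⟨papp Q 4, papp_range hQ (by norm_num) (by norm_num), ?_⟩
      change Xb (papp Q 4) = MulAut.conj (g : Spor.Co2) • Xb 4
      rw [hg, conj_Xb hm hQ hlt (by norm_num)]
    · rintro ⟨j, hj, rfl⟩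
      obtain ⟨P, hP, hlt, e⟩ := exists_tr4 hj.1 hj.2
      refine ⟨⟨mo2 0 P, h.mem 0 P inE_zero hP hlt⟩, ?_⟩
      change MulAut.conj (mo2 0 P) • Xb 4 = Xb j
      rw [conj_Xb inE_zero hP hlt (by norm_num), e]
  have h3 : (Xb '' (Set.Icc 1 22)).ncard = 22 := by
    rw [Set.InjOn.ncard_image]
    · rw [← Finset.coe_Icc, Set.ncard_coe_finset]; rfl
    · intro j hj k hk e
      exact Xb_inj hj.1 hj.2 hk.1 hk.2 e
  rw [relIndex, ← h1, MulAction.index_stabilizer, h2, h3]

/-- **`pi_cen`** -/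
theorem cen (h : NN N) : N ⊓ centralizer (Xb 4 : Set Spor.Co2) ≤ E := by
  rintro g ⟨hg, hc⟩
  obtain ⟨m, Q, hm, hQ, hlt, rfl⟩ := h.ex g hg
  have hp := isPerm_of_ok (ok_of_okP hQ)
  have h1 : ∀ n, inE n = true → n.testBit 4 = false → pimg Q n = n := by
    intro n hn hn4
    have h2 := mem_centralizer_iff.1 hc (ge n) ((ge_mem_Xb hn).2 hn4)
    have h3 := conj_ge hm hn hQ hlt
    rw [← h2, mul_inv_cancel_right] at h3
    exact (ge_inj hn (inE_pimg hQ hn) h3).symm
  have h2 : ∀ k, 1 ≤ k → k ≤ 22 → k ≠ 4 → papp Q k = k := by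
    intro k hk1 hk2 hk4
    by_contra hne
    have hr := papp_range hQ hk1 hk2
    obtain ⟨n, hn, b1, b2, b3⟩ := exists_sep4 hk1 hk2 hr.1 hr.2 (Ne.symm hne) hk4
    have h3 := testBit_pimg_papp hp n (show k < 24 by omega)
    rw [h1 n hn b3, b1, b2] at h3
    exact absurd h3 (by decide)
  have h4 : papp Q 4 = 4 := by
    by_contra hne
    have hr := papp_range hQ (show 1 ≤ 4 by norm_num) (by norm_num)
    have h5 := h2 (papp Q 4) hr.1 hr.2 hne
    exact hne (papp_injOn hp (by omega) (by norm_num) h5)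
  have h5 : Q = idP := eq_idP hQ hlt fun j hj1 hj2 => by
    by_cases hj : j = 4
    · rw [hj, h4]
    · exact h2 j hj1 hj2 hj
  rw [h5]
  exact ge_mem hm

/-- **`pi_two`** -/
theorem two (h : NN N) (U : Subgroup Spor.Co2) (hU : U ≤ N ⊓ normalizer (Xb 4 : Set Spor.Co2))
    (h2 : IsPGroup 2 U) (hn : N ⊓ normalizer (Xb 4 : Set Spor.Co2) ≤ normalizer (U : Set Spor.Co2)) :
    U ≤ E := by
  set Ω : Set (Subgroup Spor.Co2) := Xb '' {j | 1 ≤ j ∧ j ≤ 22 ∧ j ≠ 4} with hΩ
  have hact : ∀ u ∈ U, ∀ S ∈ Ω, MulAut.conj u • S ∈ Ω := by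
    rintro u hu _ ⟨j, ⟨hj1, hj2, hj4⟩, rfl⟩
    obtain ⟨m, Q, hm, hQ, hlt, rfl⟩ := h.ex u (hU hu).1
    have h4 : papp Q 4 = 4 := (stab_iff hm hQ hlt (by norm_num) (by norm_num)).1 (hU hu).2
    rw [conj_Xb hm hQ hlt (by omega)]
    have hr := papp_range hQ hj1 hj2
    refine ⟨_, ⟨hr.1, hr.2, fun e => hj4 ?_⟩, rfl⟩
    exact papp_injOn (isPerm_of_ok (ok_of_okP hQ)) (by omega) (by norm_num) (e.trans h4.symm)
  let _ : MulAction U Ω :=
    { smul := fun u S => ⟨MulAut.conj (u : Spor.Co2) • S.1, hact u u.2 S.1 S.2⟩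
      one_smul := fun S => Subtype.ext (by
        change MulAut.conj ((1 : U) : Spor.Co2) • S.1 = S.1
        rw [coe_one, map_one, one_smul])
      mul_smul := fun u v S => Subtype.ext (by
        change MulAut.conj ((u * v : U) : Spor.Co2) • S.1 = MulAut.conj (u : Spor.Co2) • MulAut.conj (v : Spor.Co2) • S.1
        rw [coe_mul, map_mul, mul_smul]) }
  have hcard : Nat.card Ω = 21 := by
    rw [Nat.card_coe_set_eq, hΩ, Set.InjOn.ncard_image]
    · have e : {j : ℕ | 1 ≤ j ∧ j ≤ 22 ∧ j ≠ 4} = ((Finset.Icc 1 22).erase 4 : Finset ℕ) := by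
        ext j
        rw [Finset.mem_coe, Finset.mem_erase, Finset.mem_Icc, Set.mem_ofPred_eq]
        tauto
      rw [e, Set.ncard_coe_finset]; rfl
    · intro j hj k hk e
      exact Xb_inj hj.1 hj.2.1 hk.1 hk.2.1 e
  have : Fact (Nat.Prime 2) := ⟨Nat.prime_two⟩
  have : Finite Ω := Nat.finite_of_card_ne_zero (by rw [hcard]; norm_num)
  obtain ⟨S, hS⟩ := h2.nonempty_fixed_point_of_prime_not_dvd_card Ω (by rw [hcard]; norm_num)
  obtain ⟨j0, ⟨hj1, hj2, hj4⟩, e0⟩ := S.2
  have hfix0 : ∀ u ∈ U, MulAut.conj u • Xb j0 = Xb j0 := by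
    intro u hu
    have h3 := hS ⟨u, hu⟩
    have h4 := congrArg Subtype.val h3
    change MulAut.conj u • S.1 = S.1 at h4
    rw [← e0] at h4
    exact h4
  -- an element of `K` mapping `1` to `k`
  have hK : ∀ k, 1 ≤ k → k ≤ 22 → k ≠ 4 → ∃ n ∈ N ⊓ normalizer (Xb 4 : Set Spor.Co2),
      MulAut.conj n • Xb 1 = Xb k := by
    intro k hk1 hk2 hk4
    obtain ⟨P, hP, hlt, e4, e1⟩ := exists_tr1 hk1 hk2 hk4
    refine ⟨mo2 0 P, ⟨h.mem 0 P inE_zero hP hlt, ?_⟩, ?_⟩
    · exact (stab_iff inE_zero hP hlt (by norm_num) (by norm_num)).2 e4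
    · rw [conj_Xb inE_zero hP hlt (by norm_num), e1]
  have hfix1 : ∀ u ∈ U, MulAut.conj u • Xb 1 = Xb 1 := by
    intro u hu
    obtain ⟨n, hnK, e⟩ := hK j0 hj1 hj2 hj4
    have h3 : n * u * n⁻¹ ∈ U := (mem_normalizer_iff.1 (hn hnK) u).1 hu
    have h4 := hfix0 _ h3
    rw [← e, map_mul, map_mul, mul_smul, mul_smul, ← mul_smul (MulAut.conj n⁻¹), ← map_mul,
      inv_mul_cancel, map_one, one_smul] at h4
    exact smul_left_cancel _ h4
  have hfix : ∀ k, 1 ≤ k → k ≤ 22 → k ≠ 4 → ∀ u ∈ U, MulAut.conj u • Xb k = Xb k := by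
    intro k hk1 hk2 hk4 u hu
    obtain ⟨n, hnK, e⟩ := hK k hk1 hk2 hk4
    have h3 : n⁻¹ * u * n ∈ U := by
      have := (mem_normalizer_iff.1 (hn (inv_mem hnK)) u).1 hu
      rwa [inv_inv] at this
    have h4 := hfix1 _ h3
    rw [← e, ← mul_smul, ← map_mul]
    have h5 : u * n = n * (n⁻¹ * u * n) := by group
    rw [h5, map_mul, mul_smul, h4]
  intro u hu
  obtain ⟨m, Q, hm, hQ, hlt, rfl⟩ := h.ex u (hU hu).1
  have h4 : papp Q 4 = 4 := (stab_iff hm hQ hlt (by norm_num) (by norm_num)).1 (hU hu).2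
  have h5 : Q = idP := eq_idP hQ hlt fun j hj1 hj2 => by
    by_cases hj : j = 4
    · rw [hj, h4]
    · exact (stab_iff hm hQ hlt hj1 hj2).1 (mem_norm_iff.2 (hfix j hj1 hj2 hj _ hu))
  rw [h5]
  exact ge_mem hm

end Cfsg.Agent.Omega.CoTwoK.Point
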