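import Cfsg.Agent.Omega.CoTwoK.ElChk
import Cfsg.Agent.Co2Type.FactsClass
import Cfsg.Agent.Co2Type.FactsD
import Cfsg.Agent.Co2Type.TCard

/-!
# Elementary abelian 2-subgroups of `Spor.Co2` (helper902)

* `maxEl` : an elementary abelian subgroup of the Sylow 2-subgroup `T` is contained in `E` or has order at most `2 ^ 9`;
* `card_le` : an elementary abelian 2-subgroup of `Spor.Co2` has order at most `2 ^ 10`;
* `conj_E` : an elementary abelian 2-subgroup of order `2 ^ 10` is conjugate to `E`; in `T` it is `E`.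
-/

set_option autoImplicit false

namespace Cfsg.Agent.Omega.CoTwoK.RankCo2

open Cfsg Cfsg.Agent.SporadicA.GolayPerm Cfsg.Agent.Co2Type.TData Cfsg.Agent.Co2Type.TGroup
open Cfsg.Agent.Co2Type.Mono Cfsg.Agent.SporadicStructure.M24El Cfsg.Agent.Co2Type.FactsD
open Cfsg.Agent.Omega.CoTwoK.ElAlg Cfsg.Agent.Omega.CoTwoK.ElData Cfsg.Agent.Omega.CoTwoK.ElChk

/-! ### the map `T → M24` -/

noncomputable def mP (g : T) : ℕ := (mem_T_iff.1 g.2).choose

noncomputable def pP (g : T) : ℕ := (mem_T_iff.1 g.2).choose_spec.choose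

theorem spec (g : T) : inE (mP g) = true ∧ pP g ∈ L22 ∧ (g : Spor.Co2) = mo2 (mP g) (pP g) :=
  (mem_T_iff.1 g.2).choose_spec.choose_spec

theorem pP_eq {g : T} {m P : ℕ} (hm : inE m = true) (hP : P ∈ L22) (h : (g : Spor.Co2) = mo2 m P) :
    mP g = m ∧ pP g = P := by
  obtain ⟨h1, h2, h3⟩ := spec g
  rw [h] at h3
  obtain ⟨h4, h5⟩ := mo2_injT hm h1 hP h2 h3
  exact ⟨h4.symm, h5.symm⟩

theorem pP_mul (a b : T) : pP (a * b) = pcomp (pP a) (pP b) := by
  obtain ⟨h1, h2, h3⟩ := spec a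
  obtain ⟨k1, k2, k3⟩ := spec b
  refine (pP_eq (inE_xor h1 (inE_pimg (okP_of_mem h2) k1)) (pcomp_mem h2 k2) ?_).2
  rw [← mo2_mul h1 k1 (okP_of_mem h2) (okP_of_mem k2), ← h3, ← k3]
  rfl

/-- the permutation part -/
noncomputable def rho : T →* M24 :=
  MonoidHom.mk' (fun g => el (pP g)) fun a b => by
    show el (pP (a * b)) = el (pP a) * el (pP b)
    rw [pP_mul, el_pcomp (ok_of_mem (spec a).2.1) (ok_of_mem (spec b).2.1)]

theorem rho_apply (g : T) : rho g = el (pP g) := rfl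

theorem rho_eq_one {g : T} : rho g = 1 ↔ pP g = idP := by
  rw [rho_apply, ← el_idP]
  exact ⟨fun h => el_inj (ok_of_mem (spec g).2.1) ok_idP (lt_of_mem (spec g).2.1) idP_lt h, fun h => by rw [h]⟩

/-! ### elementary abelian subgroups of `T` -/

section

variable {A : Subgroup Spor.Co2} (hA : A ≤ T) (h2 : ∀ a ∈ A, a * a = 1)

include h2 in
theorem comm {a b : Spor.Co2} (ha : a ∈ A) (hb : b ∈ A) : a * b = b * a := by
  have h3 : (a * b)⁻¹ = a * b := inv_eq_of_mul_eq_one_left (h2 _ (A.mul_mem ha hb))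
  have h4 : a⁻¹ = a := inv_eq_of_mul_eq_one_left (h2 a ha)
  have h5 : b⁻¹ = b := inv_eq_of_mul_eq_one_left (h2 b hb)
  rw [mul_inv_rev, h4, h5] at h3
  exact h3.symm

/-- the indices of the involutions of the image of `A` -/
def S (A : Subgroup Spor.Co2) (j : ℕ) : Prop := j < 71 ∧ ∃ m, inE m = true ∧ mo2 m (code j) ∈ A

/-- the masks of the elements of `A ⊓ E` -/
def V (A : Subgroup Spor.Co2) (n : ℕ) : Prop := inE n = true ∧ mo2 n idP ∈ A

theorem code_mem {j : ℕ} (h : j < 71) : code j ∈ L22 := by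
  obtain ⟨r, hr, rfl⟩ := exists_row h
  obtain ⟨h1, h3, -⟩ := code_row hr
  rw [h3]; exact h1

include h2 in
theorem fix_of {m n P : ℕ} (hm : inE m = true) (hP : P ∈ L22) (hn : inE n = true) (h1 : mo2 m P ∈ A)
    (h3 : mo2 n idP ∈ A) : pimg P n = n := by
  have h4 := comm h2 h1 h3
  rw [mo2_conj_E hm hn (okP_of_mem hP) (lt_of_mem hP)] at h4
  have h5 := mul_right_cancel h4
  exact (mo2_injT (inE_pimg (okP_of_mem hP) hn) hn idP_mem idP_mem h5).1

include h2 in
theorem pcomp_comm_of {m n P Q : ℕ} (hm : inE m = true) (hP : P ∈ L22) (hn : inE n = true) (hQ : Q ∈ L22)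
    (h1 : mo2 m P ∈ A) (h3 : mo2 n Q ∈ A) : pcomp P Q = pcomp Q P := by
  have h4 := comm h2 h1 h3
  rw [mo2_mul hm hn (okP_of_mem hP) (okP_of_mem hQ), mo2_mul hn hm (okP_of_mem hQ) (okP_of_mem hP)] at h4
  exact (mo2_injT (inE_xor hm (inE_pimg (okP_of_mem hP) hn)) (inE_xor hn (inE_pimg (okP_of_mem hQ) hm))
    (pcomp_mem hP hQ) (pcomp_mem hQ hP) h4).2

include h2 in
/-- the enumeration -/
theorem exists_lists : ∃ H' U' : List ℕ, (∀ j, S A j → j ∈ H') ∧ (∀ n, V A n → Sp U' n) ∧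
    (H' = [] ∨ (H'.length + 1) * 2 ^ U'.length ≤ 512) := by
  have hrow : ∀ r ∈ invRows, S A r.i → ∃ m, inE m = true ∧ mo2 m r.P ∈ A := by
    rintro r hr ⟨-, m, hm, h3⟩
    rw [(code_row hr).2.1] at h3
    exact ⟨m, hm, h3⟩
  refine go_sound (all := invRows) (S := S A) (V := V A) ?_ ?_ ?_ ?_ invRows (fun r hr => hr) pairwise_i
    0 [] B10 ?_ ?_ ?_ ?_ chkGo
  · intro r hr
    exact isPerm_of_mem (code_row hr).1
  · intro r hr hS n hn
    obtain ⟨m, hm, h3⟩ := hrow r hr hS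
    exact fix_of h2 hm (code_row hr).1 hn.1 h3 hn.2
  · intro r hr hS j hj
    obtain ⟨s, hs, rfl⟩ := exists_row hj.1
    by_cases hne : r.i = s.i
    · rw [← hne]; exact (code_row hr).2.2
    · obtain ⟨m, hm, h3⟩ := hrow r hr hS
      obtain ⟨n, hn, h4⟩ := hrow s hs hj
      exact (pair_spec hr hs hne (pcomp_comm_of h2 hm (code_row hr).1 hn (code_row hs).1 h3 h4)).1
  · intro r hr hS j hj hne
    obtain ⟨s, hs, rfl⟩ := exists_row hj.1
    obtain ⟨m, hm, h3⟩ := hrow r hr hS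
    obtain ⟨n, hn, h4⟩ := hrow s hs hj
    obtain ⟨-, h5, h6, h7⟩ :=
      pair_spec hr hs hne (pcomp_comm_of h2 hm (code_row hr).1 hn (code_row hs).1 h3 h4)
    refine ⟨⟨h6, _, inE_xor hm (inE_pimg (okP_of_mem (code_row hr).1) hn), ?_⟩, h5⟩
    rw [h7, ← mo2_mul hm hn (okP_of_mem (code_row hr).1) (okP_of_mem (code_row hs).1)]
    exact A.mul_mem h3 h4
  · intro j
    rw [Nat.zero_testBit]
    simp
  · intro j hj
    exact absurd hj (by simp)
  · intro j hj
    right
    rw [map_i]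
    exact List.mem_range.2 hj.1
  · intro n hn
    exact sp_B10 hn.1

include h2 in
/-- a nontrivial permutation part is a row -/
theorem exists_code {m P : ℕ} (hm : inE m = true) (hP : P ∈ L22) (h : mo2 m P ∈ A) (hne : P ≠ idP) :
    ∃ j, S A j ∧ code j = P := by
  have h3 := h2 _ h
  rw [mo2_mul hm hm (okP_of_mem hP) (okP_of_mem hP)] at h3
  have h4 : mo2 (m ^^^ pimg P m) (pcomp P P) = mo2 0 idP := by rw [h3, mo2_one]
  have h5 := (mo2_injT (inE_xor hm (inE_pimg (okP_of_mem hP) hm)) inE_zero (pcomp_mem hP hP) idP_mem h4).2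
  obtain ⟨j, hj, h6⟩ := mem_codes hP hne h5
  exact ⟨j, ⟨hj, m, hm, by rw [h6]; exact h⟩, h6⟩

include hA h2 in
/-- **An elementary abelian subgroup of `T` is contained in `E` or has order at most `2 ^ 9`.** -/
theorem maxEl : A ≤ E ∨ Nat.card A ≤ 2 ^ 9 := by
  obtain ⟨H', U', hH, hU, h3⟩ := exists_lists h2
  rcases h3 with h3 | h3
  · left
    intro g hg
    obtain ⟨m, P, hm, hP, rfl⟩ := hA hg
    by_cases hne : P = idP
    · subst hne
      exact mo2_mem_E hm
    · exfalso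
      obtain ⟨j, hj, -⟩ := exists_code h2 hm hP hg hne
      have h4 := hH j hj
      rw [h3] at h4
      exact absurd h4 (by simp)
  · right
    let φ : A →* M24 := rho.comp (Subgroup.inclusion hA)
    have hφ : ∀ a : A, φ a = rho ⟨(a : Spor.Co2), hA a.2⟩ := fun a => rfl
    have h4 := φ.ker.card_mul_index
    rw [Subgroup.index_ker] at h4
    have hfinA : Finite A := by
      have := Nat.finite_of_card_ne_zero (α := T) (by rw [Cfsg.Agent.Co2Type.TCard.card_T]; norm_num)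
      exact Finite.of_injective _ (Subgroup.inclusion_injective hA)
    -- the kernel
    have hk : Nat.card φ.ker ≤ 2 ^ U'.length := by
      obtain ⟨hf, hn⟩ := ncard_sp U'
      refine le_trans ?_ hn
      rw [← Nat.card_coe_set_eq]
      have : Finite ({a | Sp U' a} : Set ℕ) := hf
      have key : ∀ a : φ.ker, V A (mP ⟨((a : A) : Spor.Co2), hA (a : A).2⟩) ∧
          ((a : A) : Spor.Co2) = mo2 (mP ⟨((a : A) : Spor.Co2), hA (a : A).2⟩) idP := by
        intro a
        obtain ⟨h5, h6, h7⟩ := spec ⟨((a : A) : Spor.Co2), hA (a : A).2⟩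
        have h8 : rho ⟨((a : A) : Spor.Co2), hA (a : A).2⟩ = 1 := a.2
        rw [rho_eq_one] at h8
        rw [h8] at h7
        have h9 : ((a : A) : Spor.Co2) = mo2 (mP ⟨((a : A) : Spor.Co2), hA (a : A).2⟩) idP := h7
        refine ⟨⟨h5, ?_⟩, h9⟩
        rw [← h9]
        exact (a : A).2
      apply Nat.card_le_card_of_injective
        (fun a : φ.ker => (⟨mP ⟨((a : A) : Spor.Co2), hA (a : A).2⟩, hU _ (key a).1⟩ : {a | Sp U' a}))
      intro a b hab
      have hab' : mP ⟨((a : A) : Spor.Co2), hA (a : A).2⟩ = mP ⟨((b : A) : Spor.Co2), hA (b : A).2⟩ :=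
        congrArg Subtype.val hab
      apply Subtype.ext
      apply Subtype.ext
      rw [(key a).2, (key b).2, hab']
    -- the image
    have hr : Nat.card φ.range ≤ H'.length + 1 := by
      have hsub : ((φ.range : Subgroup M24) : Set M24) ⊆ ((idP :: H'.map code).map el).toFinset := by
        rintro _ ⟨a, rfl⟩
        obtain ⟨h5, h6, h7⟩ := spec ⟨(a : Spor.Co2), hA a.2⟩
        rw [Finset.mem_coe, List.mem_toFinset, List.mem_map]
        refine ⟨pP ⟨(a : Spor.Co2), hA a.2⟩, ?_, rfl⟩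
        by_cases hne : pP ⟨(a : Spor.Co2), hA a.2⟩ = idP
        · rw [hne]; exact List.mem_cons_self
        · obtain ⟨j, hj, h8⟩ := exists_code h2 h5 h6 (by rw [← h7]; exact a.2) hne
          exact List.mem_cons_of_mem _ (List.mem_map.2 ⟨j, hH j hj, h8⟩)
      have h5 := Set.ncard_le_ncard hsub (Finset.finite_toSet _)
      rw [Set.ncard_coe_finset] at h5
      have h6 : Nat.card φ.range = ((φ.range : Subgroup M24) : Set M24).ncard := by
        rw [← Nat.card_coe_set_eq]; rfl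
      rw [h6]
      refine h5.trans ((List.toFinset_card_le _).trans ?_)
      simp
    calc Nat.card A = Nat.card φ.ker * Nat.card φ.range := h4.symm
      _ ≤ 2 ^ U'.length * (H'.length + 1) := Nat.mul_le_mul hk hr
      _ = (H'.length + 1) * 2 ^ U'.length := Nat.mul_comm _ _
      _ ≤ 2 ^ 9 := h3

end

/-! ### elementary abelian 2-subgroups of `Spor.Co2` -/

theorem finite_T : Finite T := Nat.finite_of_card_ne_zero (by rw [Cfsg.Agent.Co2Type.TCard.card_T]; norm_num)

/-- an elementary abelian subgroup of `T` of order at least `2 ^ 10` is `E` -/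
theorem eq_E {A : Subgroup Spor.Co2} (hA : A ≤ T) (h2 : ∀ a ∈ A, a * a = 1) (h : 2 ^ 10 ≤ Nat.card A) : A = E := by
  have h1 : A ≤ E := (maxEl hA h2).resolve_right (by omega)
  have : Finite E := Nat.finite_of_card_ne_zero (by rw [Cfsg.Agent.Co2Type.TCard.card_E]; norm_num)
  apply Subgroup.eq_of_le_of_card_ge h1
  rw [Cfsg.Agent.Co2Type.TCard.card_E]
  exact h

/-- a 2-subgroup of `Spor.Co2` is conjugate to a subgroup of `T` -/
theorem exists_conj_le [Finite Spor.Co2] {A : Subgroup Spor.Co2} (hA : IsPGroup 2 A) :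
    ∃ g : Spor.Co2, A.map (MulAut.conj g).toMonoidHom ≤ T := by
  have : Fact (Nat.Prime 2) := ⟨Nat.prime_two⟩
  have hT : IsPGroup 2 T := IsPGroup.of_card Cfsg.Agent.Co2Type.TCard.card_T
  let P : Sylow 2 Spor.Co2 := hT.toSylow Cfsg.Agent.Co2Type.FactsClass.odd_index
  obtain ⟨Q, hQ⟩ := hA.exists_le_sylow
  obtain ⟨g, hg⟩ := MulAction.exists_smul_eq Spor.Co2 Q P
  refine ⟨g, ?_⟩
  have h1 : ((g • Q : Sylow 2 Spor.Co2) : Subgroup Spor.Co2) = T := by
    rw [hg]; rfl
  rw [← h1]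
  rintro _ ⟨a, ha, rfl⟩
  exact ⟨a, hQ ha, rfl⟩

theorem isPGroup_of_sq {G : Type*} [Group G] {A : Subgroup G} (h2 : ∀ a ∈ A, a * a = 1) : IsPGroup 2 A := fun a =>
  ⟨1, Subtype.ext (by rw [pow_one, pow_two]; exact h2 a a.2)⟩

/-- **An elementary abelian 2-subgroup of `Spor.Co2` has order at most `2 ^ 10`.** -/
theorem card_le [Finite Spor.Co2] {A : Subgroup Spor.Co2} (h2 : ∀ a ∈ A, a * a = 1) : Nat.card A ≤ 2 ^ 10 := by
  obtain ⟨g, hg⟩ := exists_conj_le (isPGroup_of_sq h2)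
  have hc : Nat.card (A.map (MulAut.conj g).toMonoidHom) = Nat.card A :=
    Nat.card_congr (A.equivMapOfInjective _ (MulAut.conj g).injective).toEquiv.symm
  rw [← hc]
  rcases maxEl hg (by
    rintro _ ⟨a, ha, rfl⟩
    rw [← map_mul, h2 a ha, map_one]) with h | h
  · have := Cfsg.Agent.Co2Type.TCard.card_E
    have hE : Finite E := Nat.finite_of_card_ne_zero (by rw [this]; norm_num)
    rw [← this]
    exact Nat.card_le_card_of_injective _ (Subgroup.inclusion_injective h)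
  · exact h.trans (by norm_num)

/-- **An elementary abelian 2-subgroup of `Spor.Co2` of order `2 ^ 10` is conjugate to `E`.** -/
theorem conj_E [Finite Spor.Co2] {A : Subgroup Spor.Co2} (h2 : ∀ a ∈ A, a * a = 1) (h : 2 ^ 10 ≤ Nat.card A) :
    ∃ g : Spor.Co2, A.map (MulAut.conj g).toMonoidHom = E := by
  obtain ⟨g, hg⟩ := exists_conj_le (isPGroup_of_sq h2)
  refine ⟨g, eq_E hg ?_ ?_⟩
  · rintro _ ⟨a, ha, rfl⟩
    rw [← map_mul, h2 a ha, map_one]
  · rw [Nat.card_congr (A.equivMapOfInjective _ (MulAut.conj g).injective).toEquiv.symm]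
    exact h

end Cfsg.Agent.Omega.CoTwoK.RankCo2
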