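import Cfsg.Agent.Omega.CoTwoK.Normal

/-!
# `E` is the only abelian normal subgroup of order `2^10` and exponent two of `T` (helper904)

`eq_E` : an elementary abelian subgroup `X` of order `2^10` of `T`, normalised by `T`, is `E`.
-/

set_option autoImplicit false
set_option linter.dupNamespace false

namespace Cfsg.Agent.Omega.CoTwoK.Unique

open Cfsg Cfsg.Agent.SporadicA.GolayBase Cfsg.Agent.SporadicA.GolayPerm
open Cfsg.Agent.SporadicStructure.M24El Cfsg.Agent.SporadicA.Co0Mono
open Cfsg.Agent.Co2Type.Mono Cfsg.Agent.Co2Type.TGroup Cfsg.Agent.Co2Type.TData Cfsg.Agent.Co2Type.FactsD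
open Cfsg.Agent.Omega.CoTwoK.Normal
open Subgroup

/-- the central involution of `T22` -/
def z0 : ℕ := 0xbd8a79c88f824cb629c1a36b118900

/-- involutions `P` with `Q` such that `(PQ)²` is the central one -/
def W1 : List (ℕ × ℕ) := [(24846825968022034463888068564044087, 29171931033524210258733142741469239),
  (25502201696235843599827270015207639, 29171931033524210258733142741469239),
  (984595137648923788561440491536746848, 25525039304699397647261516727159255),
  (25541498956642104225835441434478871, 13550039064159020506630624430901911),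
  (984123571547119987159515244511988160, 29171931033524210258733142741469239),
  (984778947275340660717821982278781344, 29171931033524210258733142741469239),
  (25318392069809070586182471667501463, 13550039064159020506630624430901911),
  (959951653840603512340169225130412288, 13550039064159020506630624430901911),
  (960134195134516694738973837755091328, 13550039064159020506630624430901911),
  (24875981887444158271857804570871863, 13550039064159020506630624430901911),
  (984649647149968121315896139822762272, 29171931033524210258733142741469239),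
  (984231322269954045815289618422139072, 29171931033524210258733142741469239),
  (25294307192587981410002087747864951, 13550039064159020506630624430901911),
  (959894609041950200578829698494826528, 13550039064159020506630624430901911),
  (959501637986750971370155343607433568, 13550039064159020506630624430901911),
  (25372901570853550914586307288451543, 29171931033524210258733142741469239),
  (24954576690846339836347322203457975, 29171931033524210258733142741469239),
  (984571052771685786531681076360874368, 25525039304699397647261516727159255),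
  (29171931033524210258733142741469239, 24846825968022034463888068564044087),
  (28786565649808018267788159519672695, 24846825968022034463888068564044087),
  (968571400229892424521567095052929056, 984404989996146640795157331214174720),
  (968997331206528434462782776219896160, 984404989996146640795157331214174720),
  (980660469009321933237100369869605120, 24846825968022034463888068564044087),
  (980275103625608021941000511577983360, 24846825968022034463888068564044087),
  (980717513807977534628435478231451680, 24846825968022034463888068564044087),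
  (980907660773371473550124337591552352, 24846825968022034463888068564044087),
  (29228975832192131840956821991966999, 24846825968022034463888068564044087),
  (29419122797588351457490806282242455, 24846825968022034463888068564044087),
  (969236917299104980296428884531448064, 984404989996146640795157331214174720),
  (969021416083764133459847312754444672, 984404989996146640795157331214174720),
  (13550039064159020506630624430901911, 25541498956642104225835441434478871),
  (13522150597528027721274484959332503, 25541498956642104225835441434478871),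
  (984469640424621770493152374929066624, 24846825968022034463888068564044087),
  (984522881593772296139707057299359872, 24846825968022034463888068564044087),
  (984404989996146640795157331214174720, 24846825968022034463888068564044087),
  (983998074281752343943170086404197024, 24846825968022034463888068564044087),
  (984439216841335364591954947081341408, 24846825968022034463888068564044087),
  (984273154656616016941563778037811360, 24846825968022034463888068564044087),
  (13356088475421506087823970845444343, 25541498956642104225835441434478871),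
  (13239464237020258164500421254171191, 25541498956642104225835441434478871),
  (984194560199829098639614076839364832, 24846825968022034463888068564044087),
  (984321324869319684017664638098442784, 24846825968022034463888068564044087),
  (3946595451876709400138516383091383, 25541498956642104225835441434478871),
  (4348440718605736056185651564595735, 25541498956642104225835441434478871),
  (4236887169715606419332153063721143, 25541498956642104225835441434478871),
  (4397878906769683873783212478777847, 25541498956642104225835441434478871),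
  (25525039304699397647261516727159255, 25502201696235843599827270015207639),
  (984122284074263746180992119694772480, 25502201696235843599827270015207639),
  (984801745269732621477165754873104672, 25502201696235843599827270015207639),
  (24845578109244385367080640692979767, 25502201696235843599827270015207639),
  (984169187118468521504517259810654656, 25502201696235843599827270015207639),
  (25374189043728842624340974963362071, 25502201696235843599827270015207639),
  (24892481153451736533347280408906039, 25502201696235843599827270015207639),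
  (984650895008759490611503713509263392, 25502201696235843599827270015207639),
  (28848700245631865731357647764260919, 24846825968022034463888068564044087),
  (980258604361933000183917870384793792, 24846825968022034463888068564044087),
  (980337198607347817318270043156498688, 24846825968022034463888068564044087),
  (28770106000223622339025476757293495, 24846825968022034463888068564044087),
  (980884823720551302367760286722672672, 24846825968022034463888068564044087),
  (29435622061258227005749040069806295, 24846825968022034463888068564044087),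
  (29396325358846642421639194900498711, 24846825968022034463888068564044087),
  (980924120422969460693890133656717728, 24846825968022034463888068564044087)]

/-- the other involutions -/
def W2 : List (ℕ × ℕ) := [(13655254267030198278037860231268407, 24846825968022034463888068564044087),
  (13837795560941099981997347925772663, 24846825968022034463888068564044087),
  (13598209468359987065818599254509847, 24846825968022034463888068564044087),
  (13205238413163038551989369297291671, 24846825968022034463888068564044087),
  (4102516248584811369385940029753623, 24846825968022034463888068564044087),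
  (4528447225218527213057199351482775, 24846825968022034463888068564044087),
  (4768033317780472160969611844208695, 24846825968022034463888068564044087),
  (4552532102441919421932461912443255, 24846825968022034463888068564044087)]

/-- `(PQ)²` -/
def sqc (P Q : ℕ) : ℕ := pcomp (pcomp P Q) (pcomp P Q)

theorem chk1 : W1.all (fun t => memL t.1 L22 && memL t.2 L22 && Nat.beq (pcomp t.2 t.2) idP &&
    Nat.beq (sqc t.1 t.2) z0) = true := by decide +kernel

theorem chk2 : W2.all (fun t => memL t.1 L22 && memL t.2 L22 && Nat.beq (pcomp t.2 t.2) idP &&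
    memL (sqc t.1 t.2) (W1.map fun t => t.1)) = true := by decide +kernel

theorem chk3 : L22.all (fun P => !(Nat.beq (pcomp P P) idP) || Nat.beq P idP || Nat.beq P z0 ||
    memL P (W1.map fun t => t.1) || memL P (W2.map fun t => t.1)) = true := by decide +kernel

/-- `X` has an element with permutation `P` -/
def HasP (X : Subgroup Spor.Co2) (P : ℕ) : Prop := ∃ m, inE m = true ∧ mo2 m P ∈ X

theorem step {X : Subgroup Spor.Co2} (hn : T ≤ normalizer (X : Set Spor.Co2)) {P Q : ℕ} (hP : P ∈ L22) (hQ : Q ∈ L22)
    (hQQ : pcomp Q Q = idP) (h : HasP X P) : HasP X (sqc P Q) := by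
  obtain ⟨m, hm, hx⟩ := h
  have ht : mo2 0 Q ∈ T := mo2_mem_T inE_zero hQ
  have htt : mo2 0 Q * mo2 0 Q = 1 := by
    rw [mo2_mul inE_zero inE_zero (okP_of_mem hQ) (okP_of_mem hQ), hQQ, pimg_zero (isPerm_of_mem hQ), Nat.xor_self,
      mo2_one]
  have hinv : (mo2 0 Q)⁻¹ = mo2 0 Q := inv_eq_of_mul_eq_one_left htt
  have h1 := (mem_normalizer_iff.1 (hn ht) _).1 hx
  have h2 := X.mul_mem hx h1
  rw [hinv] at h2
  have h3 : mo2 m P * (mo2 0 Q * mo2 m P * mo2 0 Q) = (mo2 m P * mo2 0 Q) * (mo2 m P * mo2 0 Q) := by
    simp only [mul_assoc]
  rw [h3, mo2_mul hm inE_zero (okP_of_mem hP) (okP_of_mem hQ)] at h2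
  have hk : inE (m ^^^ pimg P 0) = true := inE_xor hm (inE_pimg (okP_of_mem hP) inE_zero)
  have hPQ : okP (pcomp P Q) = true := okP_pcomp (okP_of_mem hP) (okP_of_mem hQ)
  rw [mo2_mul hk hk hPQ hPQ] at h2
  exact ⟨_, inE_xor hk (inE_pimg hPQ hk), h2⟩

/-- a normal subgroup not in `E` contains an element over `z0` -/
theorem has_z0 {X : Subgroup Spor.Co2} (hX : X ≤ T) (hn : T ≤ normalizer (X : Set Spor.Co2))
    (hsq : ∀ x ∈ X, x * x = 1) (hne : ¬ X ≤ E) : HasP X z0 := by
  obtain ⟨g, hg, hg'⟩ := SetLike.not_le_iff_exists.1 hne
  obtain ⟨m, P, hm, hP, rfl⟩ := hX hg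
  have hsq' := hsq _ hg
  rw [mo2_mul hm hm (okP_of_mem hP) (okP_of_mem hP), ← mo2_one] at hsq'
  have hPP : pcomp P P = idP := (mo2_inj (inE_xor hm (inE_pimg (okP_of_mem hP) hm)) inE_zero
    (okP_pcomp (okP_of_mem hP) (okP_of_mem hP)) okP_idP (pcomp_lt _ _) Cfsg.Agent.Co2Type.TGroup.idP_lt hsq').2
  have hPne : P ≠ idP := by
    rintro rfl
    exact hg' ⟨m, hm, rfl⟩
  have h0 : HasP X P := ⟨m, hm, hg⟩
  have key1 : ∀ P ∈ W1.map fun t => t.1, HasP X P → HasP X z0 := by
    intro P hP h
    obtain ⟨t, ht, rfl⟩ := List.mem_map.1 hP
    have h1 := List.all_eq_true.1 chk1 t ht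
    simp only [Bool.and_eq_true, memL_iff] at h1
    obtain ⟨⟨⟨a, b⟩, c⟩, d⟩ := h1
    have h2 := step hn a b (Nat.eq_of_beq_eq_true c) h
    rwa [Nat.eq_of_beq_eq_true d] at h2
  have h1 := List.all_eq_true.1 chk3 P hP
  simp only [Bool.or_eq_true, memL_iff] at h1
  rcases h1 with (((h1 | h1) | h1) | h1) | h1
  · rw [hPP] at h1
    simp at h1
  · exact absurd (Nat.eq_of_beq_eq_true h1) hPne
  · rwa [Nat.eq_of_beq_eq_true h1] at h0
  · exact key1 _ h1 h0
  · obtain ⟨t, ht, rfl⟩ := List.mem_map.1 h1
    have h2 := List.all_eq_true.1 chk2 t ht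
    simp only [Bool.and_eq_true, memL_iff] at h2
    obtain ⟨⟨⟨a, b⟩, c⟩, d⟩ := h2
    exact key1 _ d (step hn a b (Nat.eq_of_beq_eq_true c) h0)

/-! ### counting -/

/-- `[b, z0]` -/
def fb (b : ℕ) : ℕ := b ^^^ pimg z0 b

/-- the permutations fixing `[E, z0]` -/
def qC (Q : ℕ) : Bool := B10.all fun b => Nat.beq (pimg Q (fb b)) (fb b)

theorem length_qC : (L22.filter qC).length = 4 := by decide +kernel

theorem ok_z0 : okP z0 = true := by decide +kernel

theorem z0_lt : z0 < 2 ^ 120 := by decide +kernel

theorem z0_mem : z0 ∈ L22 := memL_iff.1 (by decide +kernel)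

/-- basis of the masks fixed by `z0` -/
def BF : List ℕ := [4726026, 3415470, 1186194, 498974, 252432, 31554]

theorem chkF : allSp B10 (fun m => !(Nat.beq (pimg z0 m) m) || spB BF m) 0 = true := by decide +kernel

theorem ncard_fix : {m | inE m = true ∧ pimg z0 m = m}.ncard ≤ 64 := by
  have h := ncard_sp BF
  refine le_trans (Set.ncard_le_ncard ?_ h.1) h.2
  rintro m ⟨hm, h1⟩
  have h2 := allSp_zero chkF (sp_B10 hm)
  rcases (Bool.or_eq_true _ _).mp h2 with h2 | h2
  · rw [h1] at h2; simp at h2
  · exact sp_of_spB h2

theorem fb_mem {b : ℕ} (hb : b ∈ B10) : inE (fb b) = true :=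
  inE_xor (Cfsg.Agent.KFacts.Co2.Mono.chkB b hb) (inE_pimg ok_z0 (Cfsg.Agent.KFacts.Co2.Mono.chkB b hb))

/-- the centraliser of `[E, z0]` in `T` -/
def CC : Subgroup Spor.Co2 := T ⊓ centralizer {g | ∃ b ∈ B10, g = ge (fb b)}

theorem mem_CC {g : Spor.Co2} : g ∈ CC ↔ ∃ m P, inE m = true ∧ P ∈ L22 ∧ qC P = true ∧ g = mo2 m P := by
  unfold CC
  rw [mem_inf, mem_centralizer_iff]
  constructor
  · rintro ⟨⟨m, P, hm, hP, rfl⟩, h⟩
    refine ⟨m, P, hm, hP, ?_, rfl⟩
    unfold qC
    rw [List.all_eq_true]
    intro b hb
    have h1 := h _ ⟨b, hb, rfl⟩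
    have h2 := (Cfsg.Agent.Co2Type.TCard.comm_E_iff hm (fb_mem hb) (okP_of_mem hP) (lt_of_mem hP)).1 h1.symm
    rw [h2]; exact Nat.beq_refl _
  · rintro ⟨m, P, hm, hP, hq, rfl⟩
    refine ⟨mo2_mem_T hm hP, ?_⟩
    rintro _ ⟨b, hb, rfl⟩
    have h1 : pimg P (fb b) = fb b := Nat.eq_of_beq_eq_true (List.all_eq_true.1 hq b hb)
    exact ((Cfsg.Agent.Co2Type.TCard.comm_E_iff hm (fb_mem hb) (okP_of_mem hP) (lt_of_mem hP)).2 h1).symm

theorem card_CC : Nat.card CC = 4096 := by
  rw [← SetLike.coe_sort_coe, Nat.card_coe_set_eq]
  have h : ((CC : Subgroup Spor.Co2) : Set Spor.Co2) =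
      {g : Spor.Co2 | ∃ m P, inE m = true ∧ P ∈ L22 ∧ qC P = true ∧ g = mo2 m P} := by
    ext g; exact mem_CC
  rw [h, Cfsg.Agent.Co2Type.TCard.ncard_filter, length_qC]

theorem E_le_CC : E ≤ CC := by
  rintro _ ⟨m, hm, rfl⟩
  refine mem_CC.2 ⟨m, idP, hm, idP_mem, ?_, rfl⟩
  decide +kernel

theorem relIndex_CC : E.relIndex CC = 4 := by
  have h2 := Subgroup.relIndex_mul_relIndex (⊥ : Subgroup Spor.Co2) E CC bot_le E_le_CC
  rw [relIndex_bot_left, relIndex_bot_left, card_CC, Cfsg.Agent.Co2Type.TCard.card_E] at h2
  omega

/-- **Uniqueness of `E`** -/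
theorem eq_E {X : Subgroup Spor.Co2} (hX : X ≤ T) (hn : T ≤ normalizer (X : Set Spor.Co2))
    (hsq : ∀ x ∈ X, x * x = 1) (hc : Nat.card X = 2 ^ 10) : X = E := by
  have hfin : Finite Spor.Co2 := inferInstance
  have hab : ∀ x ∈ X, ∀ y ∈ X, x * y = y * x := by
    intro x hx y hy
    have h1 := hsq _ (X.mul_mem hx hy)
    have hx1 : x⁻¹ = x := inv_eq_of_mul_eq_one_left (hsq x hx)
    have hy1 : y⁻¹ = y := inv_eq_of_mul_eq_one_left (hsq y hy)
    have h2 : x * y = (x * y)⁻¹ := (inv_eq_of_mul_eq_one_left h1).symm
    rw [h2, mul_inv_rev, hx1, hy1]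
  by_cases hle : X ≤ E
  · exact eq_of_le_of_card_ge hle (by rw [hc, Cfsg.Agent.Co2Type.TCard.card_E])
  exfalso
  obtain ⟨m, hm, hx⟩ := has_z0 hX hn hsq hle
  -- `[E, z0] ≤ X`
  have hF : ∀ b ∈ B10, ge (fb b) ∈ X := by
    intro b hb
    have hbE := Cfsg.Agent.KFacts.Co2.Mono.chkB b hb
    have h1 := (mem_normalizer_iff.1 (hn (E_le_T (ge_mem hbE))) _).1 hx
    have h2 := X.mul_mem h1 (X.inv_mem hx)
    have h3 : ge b * mo2 m z0 * (ge b)⁻¹ * (mo2 m z0)⁻¹ = ge (fb b) := by
      have h4 := conj_mo2 hm ok_z0 z0_lt hbE
      have h5 : ge b * mo2 m z0 * (ge b)⁻¹ * (mo2 m z0)⁻¹ = ge b * (mo2 m z0 * ge b * (mo2 m z0)⁻¹) := by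
        rw [ge_inv hbE]; group
      rw [h5, h4, ge_mul hbE (inE_pimg ok_z0 hbE)]
      rfl
    rwa [h3] at h2
  have hXC : X ≤ CC := by
    intro g hg
    refine ⟨hX hg, mem_centralizer_iff.2 ?_⟩
    rintro _ ⟨b, hb, rfl⟩
    exact hab _ (hF b hb) _ hg
  have h4 : E.relIndex X ≤ 4 := by
    rw [← relIndex_CC]
    exact relIndex_le_of_le_right hXC (by rw [relIndex_CC]; norm_num)
  have h64 : Nat.card (E ⊓ X : Subgroup Spor.Co2) ≤ 64 := by
    rw [← SetLike.coe_sort_coe, Nat.card_coe_set_eq]
    have hfm : {m | inE m = true ∧ pimg z0 m = m}.Finite :=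
      Set.Finite.subset (ncard_sp B10).1 fun m hm => sp_B10 hm.1
    have hsub : ((E ⊓ X : Subgroup Spor.Co2) : Set Spor.Co2) ⊆ ge '' {m | inE m = true ∧ pimg z0 m = m} := by
      rintro g ⟨⟨n, hn', rfl⟩, hg⟩
      refine ⟨n, ⟨hn', ?_⟩, rfl⟩
      exact (Cfsg.Agent.Co2Type.TCard.comm_E_iff hm hn' ok_z0 z0_lt).1 (hab _ hx _ hg)
    exact (Set.ncard_le_ncard hsub (hfm.image _)).trans ((Set.ncard_image_le hfm).trans ncard_fix)
  have h6 : Nat.card (E ⊓ X : Subgroup Spor.Co2) * E.relIndex X = Nat.card X := by
    have h7 := Subgroup.relIndex_mul_relIndex (⊥ : Subgroup Spor.Co2) (E ⊓ X) X bot_le inf_le_right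
    rwa [relIndex_bot_left, relIndex_bot_left, inf_relIndex_right] at h7
  have h8 : Nat.card (E ⊓ X : Subgroup Spor.Co2) * E.relIndex X ≤ 64 * 4 := Nat.mul_le_mul h64 h4
  rw [h6, hc] at h8
  norm_num at h8

end Cfsg.Agent.Omega.CoTwoK.Unique
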